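import Cfsg.Agent.TAB.M.Virt_m3
import Cfsg.Agent.TAB.B.Fin.Use
import Cfsg.Agent.MQ.S.B.Tri
import Cfsg.Agent.H66.TwESixCover
import Cfsg.Agent.H59.CrossTw
import Cfsg.Agent.S2493
import Cfsg.Agent.S1070
import Cfsg.Agent.TAB.F22.CovB
import Cfsg.Agent.H447.CTabLam_m3
import Cfsg.Agent.Lib.F2MatGroup
import Cfsg.Agent.Lib.FinFast
import Cfsg.Agent.Prune
set_option linter.all false
prune_inst 0x7f00000000000000000000000000000000000000000000000000000000000000000000000000000000000000000000000000000000000000000000000000000000000000000000000000000000000000003fffffffffffffffffffffffffffbeffbdfbfeffff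
open scoped Cfsg.Agent.FastGrp

-- part: MO/S/B2/Dat
section
/-!
# The faithful characters of `2.B` : data (helper39)

* `aL`, `bL` : the types in the Monster of the two preimages of an element of the Baby Monster;
* `g1L`, `g2L` : the faithful parts of the characters of degrees 196883 and 21296876;
* `C` : the columns of the 51 faithful rows, `co` : the rows as combinations of products.
-/

set_option autoImplicit false
set_option maxRecDepth 100000

namespace Cfsg.Agent.MO.S.B2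

open Cfsg.Agent.TAB.Eng

/-- the first type -/
def aL : List ℕ :=
  [0, 1, 1, 7, 2, 3, 4, 6, 6, 8, 7, 6, 8, 7, 8, 22, 9, 10, 11, 12, 12, 12, 15, 14, 36, 15, 14, 13, 16, 40, 18, 20,
  21, 21, 20, 21, 24, 23, 24, 23, 20, 21, 22, 24, 25, 27, 26, 28, 28, 64, 30, 29, 31, 33, 34, 35, 34, 34, 36, 35,
  38, 36, 38, 34, 40, 36, 42, 35, 41, 38, 42, 39, 41, 82, 44, 46, 46, 90, 46, 47, 49, 51, 53, 53, 55, 54, 53, 54,
  53, 56, 58, 58, 59, 60, 112, 62, 63, 65, 63, 63, 64, 64, 65, 118, 68, 67, 69, 73, 73, 75, 76, 77, 76, 76, 76, 78,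
  77, 83, 79, 78, 84, 76, 81, 83, 86, 134, 87, 89, 91, 92, 91, 90, 91, 96, 96, 142, 97, 96, 95, 100, 102, 103, 104,
  106, 107, 151, 108, 110, 112, 111, 114, 115, 119, 119, 119, 118, 120, 122, 122, 158, 126, 128, 130, 131, 131, 167,
  137, 138, 143, 142, 144, 149, 153, 55, 58]

/-- the second type -/
def bL : List ℕ :=
  [1, 1, 2, 7, 2, 12, 15, 6, 6, 8, 7, 8, 8, 7, 8, 22, 9, 28, 30, 12, 12, 14, 15, 14, 36, 16, 14, 16, 16, 40, 46, 20,
  21, 21, 20, 21, 24, 23, 24, 23, 24, 21, 22, 24, 25, 57, 58, 28, 29, 64, 32, 29, 32, 73, 34, 35, 34, 34, 36, 41,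
  38, 36, 38, 38, 40, 36, 42, 42, 41, 38, 42, 39, 42, 82, 87, 46, 46, 90, 47, 47, 96, 100, 53, 53, 55, 54, 53, 55,
  53, 107, 58, 59, 59, 61, 112, 114, 63, 65, 63, 63, 64, 64, 68, 118, 68, 67, 122, 73, 74, 129, 76, 77, 76, 76, 76,
  78, 77, 83, 79, 84, 84, 76, 81, 83, 132, 134, 87, 136, 91, 92, 91, 90, 92, 96, 96, 142, 97, 97, 101, 101, 148,
  103, 104, 149, 107, 151, 153, 110, 112, 113, 114, 156, 119, 119, 119, 118, 120, 122, 122, 158, 126, 129, 165, 131,
  131, 167, 169, 138, 143, 142, 145, 149, 153, 55, 58]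

/-- the faithful part of the row 1 of the Monster -/
def g1L : List ℤ :=
  [.ofNat 96256, .ofNat 0, .ofNat 2048, .ofNat 0, .ofNat 0, .ofNat 352, .ofNat 28, .ofNat 0, .ofNat 0, .ofNat 0,
  .ofNat 0, .ofNat 128, .ofNat 0, .ofNat 0, .ofNat 0, .ofNat 0, .ofNat 0, .ofNat 56, .ofNat 6, .ofNat 0, .ofNat 0,
  .ofNat 32, .ofNat 0, .ofNat 0, .ofNat 0, .negSucc 3, .ofNat 0, .ofNat 36, .ofNat 0, .ofNat 0, .ofNat 20, .ofNat 0,
  .ofNat 0, .ofNat 0, .ofNat 0, .ofNat 0, .ofNat 0, .ofNat 0, .ofNat 0, .ofNat 0, .ofNat 16, .ofNat 0, .ofNat 0,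
  .ofNat 0, .ofNat 0, .ofNat 1, .ofNat 10, .ofNat 0, .ofNat 8, .ofNat 0, .negSucc 1, .ofNat 0, .ofNat 10, .ofNat 6,
  .ofNat 0, .ofNat 0, .ofNat 0, .ofNat 0, .ofNat 0, .negSucc 3, .ofNat 0, .ofNat 0, .ofNat 0, .ofNat 8, .ofNat 0,
  .ofNat 0, .ofNat 0, .ofNat 2, .ofNat 0, .ofNat 0, .ofNat 0, .ofNat 0, .ofNat 6, .ofNat 0, .ofNat 4, .ofNat 0,
  .ofNat 0, .ofNat 0, .ofNat 4, .ofNat 0, .ofNat 2, .ofNat 3, .ofNat 0, .ofNat 0, .ofNat 0, .ofNat 0, .ofNat 0,
  .negSucc 3, .ofNat 0, .ofNat 2, .ofNat 0, .ofNat 2, .ofNat 0, .negSucc 2, .ofNat 0, .ofNat 2, .ofNat 0, .ofNat 0,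
  .ofNat 0, .ofNat 0, .ofNat 0, .ofNat 0, .negSucc 1, .ofNat 0, .ofNat 0, .ofNat 0, .ofNat 2, .ofNat 0, .ofNat 2,
  .ofNat 1, .ofNat 0, .ofNat 0, .ofNat 0, .ofNat 0, .ofNat 0, .ofNat 0, .ofNat 0, .ofNat 0, .ofNat 0, .negSucc 1,
  .ofNat 0, .ofNat 0, .ofNat 0, .ofNat 0, .ofNat 1, .ofNat 0, .ofNat 0, .ofNat 1, .ofNat 0, .ofNat 0, .ofNat 0,
  .ofNat 0, .ofNat 2, .ofNat 0, .ofNat 0, .ofNat 0, .ofNat 0, .ofNat 2, .ofNat 1, .ofNat 1, .ofNat 1, .ofNat 0,
  .ofNat 0, .ofNat 0, .ofNat 0, .ofNat 0, .ofNat 0, .ofNat 0, .ofNat 0, .negSucc 0, .ofNat 0, .ofNat 1, .ofNat 0,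
  .ofNat 0, .ofNat 0, .ofNat 0, .ofNat 0, .ofNat 0, .ofNat 0, .ofNat 0, .ofNat 0, .negSucc 0, .ofNat 0, .ofNat 0,
  .ofNat 0, .ofNat 0, .ofNat 1, .ofNat 0, .ofNat 0, .ofNat 0, .ofNat 1, .ofNat 0, .ofNat 0, .ofNat 0, .ofNat 0]

/-- the faithful part of the row 2 of the Monster -/
def g2L : List ℤ :=
  [.ofNat 10602496, .ofNat 0, .ofNat 47104, .ofNat 0, .ofNat 0, .ofNat 3808, .negSucc 79, .ofNat 0, .ofNat 0, .ofNat
  0, .ofNat 0, .ofNat 896, .ofNat 0, .ofNat 0, .ofNat 0, .ofNat 0, .ofNat 0, .ofNat 296, .negSucc 3, .ofNat 0,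
  .ofNat 0, .ofNat 160, .ofNat 0, .ofNat 0, .ofNat 0, .ofNat 16, .ofNat 0, .ofNat 144, .ofNat 0, .ofNat 0, .ofNat
  72, .ofNat 0, .ofNat 0, .ofNat 0, .ofNat 0, .ofNat 0, .ofNat 0, .ofNat 0, .ofNat 0, .ofNat 0, .ofNat 48, .ofNat 0,
  .ofNat 0, .ofNat 0, .ofNat 0, .ofNat 1, .ofNat 28, .ofNat 0, .ofNat 24, .ofNat 0, .ofNat 4, .ofNat 0, .ofNat 20,
  .ofNat 14, .ofNat 0, .ofNat 0, .ofNat 0, .ofNat 0, .ofNat 0, .negSucc 15, .ofNat 0, .ofNat 0, .ofNat 0, .ofNat 8,
  .ofNat 0, .ofNat 0, .ofNat 0, .negSucc 3, .ofNat 0, .ofNat 0, .ofNat 0, .ofNat 0, .ofNat 12, .ofNat 0, .ofNat 8,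
  .ofNat 0, .ofNat 0, .ofNat 0, .ofNat 8, .ofNat 0, .ofNat 8, .ofNat 5, .ofNat 0, .ofNat 0, .ofNat 0, .ofNat 0,
  .ofNat 0, .negSucc 3, .ofNat 0, .ofNat 4, .ofNat 0, .ofNat 4, .ofNat 0, .negSucc 2, .ofNat 0, .ofNat 2, .ofNat 0,
  .ofNat 0, .ofNat 0, .ofNat 0, .ofNat 0, .ofNat 0, .negSucc 3, .ofNat 0, .ofNat 0, .ofNat 0, .ofNat 0, .ofNat 0,
  .ofNat 2, .ofNat 2, .ofNat 0, .ofNat 0, .ofNat 0, .ofNat 0, .ofNat 0, .ofNat 0, .ofNat 0, .ofNat 0, .ofNat 0,
  .ofNat 0, .ofNat 0, .ofNat 0, .ofNat 0, .ofNat 0, .ofNat 1, .ofNat 0, .ofNat 0, .ofNat 1, .ofNat 0, .ofNat 0,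
  .ofNat 0, .ofNat 0, .ofNat 0, .ofNat 0, .ofNat 0, .ofNat 0, .ofNat 0, .ofNat 0, .negSucc 0, .ofNat 1, .ofNat 0,
  .ofNat 0, .ofNat 0, .ofNat 2, .ofNat 0, .ofNat 0, .ofNat 2, .ofNat 0, .ofNat 0, .negSucc 0, .ofNat 0, .negSucc 0,
  .ofNat 0, .ofNat 0, .ofNat 0, .ofNat 0, .ofNat 0, .ofNat 0, .ofNat 0, .ofNat 0, .ofNat 0, .ofNat 0, .ofNat 1,
  .ofNat 0, .ofNat 0, .ofNat 0, .negSucc 0, .ofNat 0, .ofNat 0, .ofNat 0, .negSucc 0, .ofNat 0, .ofNat 0, .ofNat 0,
  .ofNat 0]

/-- the values at 1A -/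
def col0 : List ℤ :=
  [.ofNat 96256, .ofNat 10506240, .ofNat 410132480, .ofNat 8844386304, .ofNat 36657653760, .ofNat 107872780288,
  .ofNat 100406462464, .ofNat 772566552576, .ofNat 864538761216, .ofNat 4322693806080, .ofNat 10177847623680, .ofNat
  17069098618880, .ofNat 21400636907520, .ofNat 46919155712000, .ofNat 31123395403776, .ofNat 40345142190080, .ofNat
  60780833777664, .ofNat 60863961600000, .ofNat 155367833600000, .ofNat 93980448866304, .ofNat 110949141022720,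
  .ofNat 138547878400000, .ofNat 336861420060672, .ofNat 471511922638848, .ofNat 523683776000000, .ofNat
  312199319900160, .ofNat 894449267712000, .ofNat 791851002292224, .ofNat 828829551513600, .ofNat 1566852857856000,
  .ofNat 1793872427483136, .ofNat 5285352394719232, .ofNat 2995626807613440, .ofNat 3370903132962816, .ofNat
  3824419701473280, .ofNat 4193877530658816, .ofNat 8430785792000000, .ofNat 4250243698421760, .ofNat
  8980619648000000, .ofNat 4638342016000000, .ofNat 10383294466621440, .ofNat 5191701169700864, .ofNat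
  17161170736140288, .ofNat 8740741152000000, .ofNat 12604975138529280, .ofNat 16972115104000000, .ofNat
  21065543276560384, .ofNat 24089453696000000, .ofNat 24515659148820480, .ofNat 26438944243712000, .ofNat
  29823129106907136]

/-- the values at 2B -/
def col2 : List ℤ :=
  [.ofNat 2048, .ofNat 45056, .ofNat 516096, .ofNat 3629056, .ofNat 8198144, .negSucc 3670015, .ofNat 13989888,
  .ofNat 46067712, .ofNat 65333248, .ofNat 133728256, .ofNat 258080768, .ofNat 255963136, .ofNat 384933888, .negSucc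
  14417919, .ofNat 36741120, .ofNat 219127808, .ofNat 717674496, .ofNat 548761600, .ofNat 301465600, .ofNat
  360628224, .ofNat 602601472, .ofNat 699494400, .negSucc 382205951, .negSucc 1009254399, .ofNat 39424000, .ofNat
  1806249984, .negSucc 936714239, .ofNat 934778880, .ofNat 3033640960, .ofNat 3986554880, .negSucc 265289727, .ofNat
  0, .ofNat 1414014976, .ofNat 3979345920, .ofNat 4439457792, .ofNat 4950865920, .negSucc 2590719999, .ofNat
  3586166784, .negSucc 2759679999, .ofNat 349184000, .negSucc 7512522751, .ofNat 3758096384, .negSucc 755453951,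
  .ofNat 5116672000, .ofNat 7934386176, .ofNat 1277696000, .ofNat 0, .ofNat 1813504000, .ofNat 4244635648, .negSucc
  8124497919, .negSucc 4410441727]

/-- the values at 3A -/
def col5 : List ℤ :=
  [.ofNat 352, .ofNat 3456, .ofNat 23648, .ofNat 96096, .ofNat 146016, .ofNat 23296, .ofNat 228448, .ofNat 535392,
  .ofNat 691392, .ofNat 997152, .ofNat 1611456, .ofNat 1029248, .ofNat 2122848, .negSucc 457599, .ofNat 123552,
  .ofNat 512096, .ofNat 2018016, .ofNat 2077920, .negSucc 1070079, .negSucc 41183, .ofNat 759616, .ofNat 1542880,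
  .ofNat 0, .ofNat 1817088, .negSucc 1355199, .ofNat 5787936, .ofNat 0, .ofNat 3592512, .ofNat 3931200, .ofNat
  6177600, .negSucc 1592447, .negSucc 2883583, .negSucc 247103, .ofNat 6196608, .ofNat 2122848, .negSucc 864863,
  .negSucc 1143999, .ofNat 0, .ofNat 1601600, .negSucc 2736799, .ofNat 8176896, .ofNat 4100096, .ofNat 0, .negSucc
  3775199, .ofNat 2122848, .ofNat 3253600, .negSucc 3670015, .negSucc 7453599, .negSucc 3995135, .ofNat 1601600,
  .ofNat 5957952]

/-- the values at 3B -/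
def col6 : List ℤ :=
  [.ofNat 28, .negSucc 107, .negSucc 3, .ofNat 840, .negSucc 431, .ofNat 2560, .negSucc 2239, .ofNat 2088, .negSucc
  995, .ofNat 3768, .ofNat 5712, .negSucc 13383, .negSucc 8747, .ofNat 32288, .ofNat 16632, .ofNat 8924, .ofNat
  3384, .negSucc 539, .negSucc 33279, .negSucc 32111, .ofNat 35476, .negSucc 17179, .ofNat 0, .negSucc 7679,
  .negSucc 85119, .ofNat 14256, .ofNat 52488, .ofNat 20412, .ofNat 21492, .negSucc 34127, .negSucc 11327, .ofNat
  102400, .ofNat 48060, .negSucc 39743, .negSucc 34991, .negSucc 2699, .ofNat 6200, .ofNat 0, .ofNat 198680,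
  .negSucc 10339, .ofNat 69120, .ofNat 35840, .ofNat 0, .negSucc 50819, .ofNat 43740, .ofNat 60580, .negSucc 20479,
  .ofNat 64820, .negSucc 34559, .negSucc 36543, .negSucc 65855]

/-- the values at 4E -/
def col11 : List ℤ :=
  [.ofNat 128, .ofNat 768, .ofNat 3584, .ofNat 9728, .ofNat 12672, .ofNat 0, .ofNat 16256, .ofNat 30464, .ofNat
  38528, .ofNat 43136, .ofNat 57344, .ofNat 37632, .ofNat 59904, .ofNat 16384, .ofNat 18944, .ofNat 31232, .ofNat
  54656, .ofNat 65280, .ofNat 0, .ofNat 7168, .ofNat 28544, .ofNat 65280, .ofNat 0, .ofNat 0, .ofNat 26880, .ofNat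
  80640, .ofNat 32256, .ofNat 18816, .ofNat 37632, .ofNat 73728, .ofNat 65536, .ofNat 0, .ofNat 39552, .negSucc
  65535, .ofNat 64512, .negSucc 27775, .ofNat 76800, .ofNat 20736, .negSucc 17919, .ofNat 74240, .ofNat 0, .ofNat 0,
  .negSucc 103679, .negSucc 13439, .negSucc 69119, .negSucc 67199, .ofNat 0, .ofNat 89600, .ofNat 0, .ofNat 57344,
  .negSucc 57343]

/-- the values at 5A -/
def col17 : List ℤ :=
  [.ofNat 56, .ofNat 240, .ofNat 880, .ofNat 1904, .ofNat 1960, .negSucc 111, .ofNat 2464, .ofNat 3376, .ofNat 4816,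
  .ofNat 3080, .ofNat 5280, .ofNat 880, .ofNat 5920, .ofNat 0, .negSucc 1023, .negSucc 1119, .ofNat 2464, .ofNat
  2000, .ofNat 2000, .negSucc 1495, .negSucc 3079, .negSucc 1999, .ofNat 1872, .negSucc 2351, .ofNat 0, .ofNat 6160,
  .ofNat 0, .negSucc 1175, .ofNat 0, .ofNat 0, .negSucc 2463, .ofNat 5632, .negSucc 6159, .ofNat 2816, .negSucc
  8119, .ofNat 616, .ofNat 0, .negSucc 1439, .ofNat 0, .ofNat 0, .negSucc 6159, .negSucc 3135, .ofNat 11088, .ofNat
  0, .ofNat 880, .ofNat 0, .ofNat 3584, .ofNat 0, .negSucc 1119, .ofNat 0, .negSucc 2463]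

/-- the values at 5B -/
def col18 : List ℤ :=
  [.ofNat 6, .negSucc 9, .negSucc 19, .ofNat 54, .ofNat 10, .ofNat 288, .negSucc 35, .ofNat 76, .negSucc 33,
  .negSucc 169, .negSucc 69, .ofNat 130, .ofNat 20, .negSucc 499, .ofNat 26, .ofNat 80, .ofNat 164, .ofNat 0, .ofNat
  0, .ofNat 54, .ofNat 220, .ofNat 0, .ofNat 672, .negSucc 1151, .ofNat 0, .ofNat 160, .negSucc 499, .negSucc 275,
  .negSucc 149, .negSucc 249, .ofNat 636, .negSucc 767, .negSucc 309, .ofNat 316, .negSucc 469, .ofNat 66, .ofNat 0,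
  .ofNat 510, .ofNat 0, .ofNat 0, .ofNat 1440, .ofNat 864, .ofNat 288, .ofNat 0, .negSucc 719, .ofNat 0, .ofNat 384,
  .ofNat 0, .ofNat 480, .negSucc 499, .negSucc 363]

/-- the values at 6C -/
def col21 : List ℤ :=
  [.ofNat 32, .ofNat 128, .ofNat 288, .ofNat 544, .ofNat 800, .ofNat 256, .ofNat 288, .negSucc 479, .ofNat 1600,
  .ofNat 352, .ofNat 1088, .ofNat 1408, .ofNat 288, .negSucc 639, .negSucc 1055, .negSucc 735, .ofNat 5280, .negSucc
  1375, .ofNat 1024, .ofNat 2400, .ofNat 3520, .negSucc 863, .ofNat 0, .ofNat 3584, .negSucc 319, .negSucc 2207,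
  .ofNat 0, .negSucc 5183, .ofNat 7360, .negSucc 1599, .negSucc 1407, .ofNat 0, .ofNat 64, .negSucc 1919, .ofNat
  288, .ofNat 7392, .negSucc 1599, .ofNat 0, .ofNat 2240, .negSucc 3039, .ofNat 7936, .negSucc 4095, .ofNat 0,
  .ofNat 4960, .ofNat 288, .negSucc 3039, .ofNat 0, .negSucc 1759, .negSucc 511, .ofNat 2240, .negSucc 1087]

/-- the values at 6G -/
def col25 : List ℤ :=
  [.negSucc 3, .ofNat 20, .negSucc 35, .ofNat 40, .ofNat 80, .ofNat 256, .ofNat 0, .negSucc 119, .negSucc 163,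
  .ofNat 280, .ofNat 80, .negSucc 103, .ofNat 180, .negSucc 351, .ofNat 600, .negSucc 195, .ofNat 24, .ofNat 100,
  .negSucc 1279, .negSucc 623, .ofNat 244, .negSucc 539, .ofNat 0, .ofNat 1280, .negSucc 319, .negSucc 335, .negSucc
  1079, .negSucc 323, .negSucc 523, .ofNat 560, .negSucc 255, .ofNat 0, .negSucc 835, .ofNat 384, .ofNat 720, .ofNat
  660, .ofNat 2360, .ofNat 0, .ofNat 1880, .negSucc 1059, .negSucc 1279, .ofNat 512, .ofNat 0, .negSucc 259,
  .negSucc 899, .negSucc 699, .ofNat 0, .negSucc 139, .ofNat 640, .negSucc 63, .ofNat 64]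

/-- the values at 6I -/
def col27 : List ℤ :=
  [.ofNat 36, .ofNat 108, .ofNat 324, .ofNat 504, .ofNat 432, .ofNat 0, .ofNat 576, .ofNat 792, .ofNat 612, .ofNat
  648, .ofNat 432, .ofNat 648, .ofNat 108, .negSucc 287, .ofNat 72, .ofNat 612, .negSucc 503, .ofNat 540, .ofNat 0,
  .negSucc 143, .ofNat 684, .ofNat 540, .ofNat 0, .ofNat 0, .ofNat 0, .negSucc 431, .negSucc 647, .ofNat 324,
  .negSucc 755, .negSucc 431, .negSucc 575, .ofNat 0, .ofNat 324, .negSucc 575, .ofNat 432, .negSucc 179, .negSucc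
  1079, .ofNat 0, .ofNat 360, .negSucc 539, .ofNat 0, .ofNat 0, .ofNat 0, .ofNat 900, .negSucc 539, .ofNat 540,
  .ofNat 0, .negSucc 179, .ofNat 0, .negSucc 575, .ofNat 576]

/-- the values at 7A -/
def col30 : List ℤ :=
  [.ofNat 20, .ofNat 52, .ofNat 128, .ofNat 180, .ofNat 140, .ofNat 0, .ofNat 140, .ofNat 112, .ofNat 200, .ofNat
  20, .ofNat 72, .negSucc 111, .ofNat 108, .ofNat 40, .negSucc 51, .negSucc 139, .ofNat 0, .negSucc 91, .negSucc
  111, .ofNat 112, .negSucc 139, .negSucc 147, .negSucc 143, .ofNat 0, .ofNat 0, .ofNat 0, .ofNat 0, .ofNat 0,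
  .ofNat 0, .negSucc 159, .ofNat 140, .negSucc 255, .ofNat 140, .ofNat 52, .ofNat 0, .ofNat 0, .negSucc 39, .negSucc
  107, .ofNat 0, .negSucc 139, .ofNat 0, .ofNat 0, .negSucc 359, .negSucc 199, .ofNat 108, .ofNat 0, .ofNat 0,
  .ofNat 0, .ofNat 200, .ofNat 0, .ofNat 0]

/-- the values at 8J -/
def col40 : List ℤ :=
  [.ofNat 16, .ofNat 32, .ofNat 64, .ofNat 64, .ofNat 48, .ofNat 0, .ofNat 48, .ofNat 32, .ofNat 16, .ofNat 16,
  .ofNat 0, .ofNat 32, .negSucc 63, .ofNat 0, .ofNat 64, .ofNat 64, .negSucc 15, .ofNat 32, .ofNat 0, .ofNat 0,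
  .negSucc 15, .ofNat 32, .ofNat 0, .ofNat 0, .negSucc 95, .negSucc 95, .ofNat 64, .negSucc 79, .ofNat 32, .ofNat 0,
  .ofNat 0, .ofNat 0, .ofNat 16, .ofNat 0, .ofNat 0, .negSucc 15, .ofNat 128, .ofNat 96, .negSucc 63, .ofNat 64,
  .ofNat 0, .ofNat 0, .ofNat 96, .negSucc 79, .ofNat 64, .negSucc 15, .ofNat 0, .negSucc 63, .ofNat 0, .ofNat 0,
  .ofNat 0]

/-- the values at 9A -/
def col45 : List ℤ :=
  [.ofNat 1, .ofNat 0, .negSucc 3, .ofNat 3, .ofNat 0, .negSucc 31, .ofNat 1, .ofNat 9, .ofNat 3, .negSucc 11,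
  .negSucc 11, .ofNat 8, .ofNat 0, .negSucc 57, .ofNat 27, .negSucc 12, .ofNat 9, .ofNat 0, .negSucc 15, .negSucc 8,
  .ofNat 25, .negSucc 7, .ofNat 0, .ofNat 96, .negSucc 15, .ofNat 0, .ofNat 0, .ofNat 0, .ofNat 0, .ofNat 0, .ofNat
  39, .ofNat 16, .ofNat 0, .ofNat 27, .ofNat 0, .negSucc 26, .negSucc 63, .ofNat 0, .ofNat 14, .ofNat 28, .ofNat 0,
  .negSucc 15, .ofNat 0, .negSucc 5, .ofNat 0, .negSucc 7, .ofNat 40, .negSucc 6, .ofNat 0, .negSucc 12, .negSucc 2]

/-- the values at 9B -/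
def col46 : List ℤ :=
  [.ofNat 10, .ofNat 18, .ofNat 32, .ofNat 30, .ofNat 18, .ofNat 4, .ofNat 10, .ofNat 0, .ofNat 12, .negSucc 11,
  .negSucc 11, .negSucc 27, .ofNat 0, .negSucc 3, .ofNat 0, .negSucc 21, .ofNat 0, .negSucc 17, .ofNat 20, .negSucc
  17, .negSucc 1, .negSucc 7, .ofNat 0, .ofNat 24, .ofNat 20, .ofNat 0, .ofNat 0, .ofNat 0, .negSucc 17, .ofNat 18,
  .negSucc 5, .ofNat 16, .negSucc 17, .ofNat 0, .ofNat 0, .ofNat 0, .ofNat 8, .ofNat 0, .negSucc 3, .ofNat 28,
  .ofNat 36, .ofNat 20, .ofNat 0, .ofNat 30, .ofNat 0, .negSucc 7, .negSucc 31, .ofNat 20, .negSucc 17, .negSucc 3,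
  .ofNat 6]

/-- the values at 10B -/
def col48 : List ℤ :=
  [.ofNat 8, .ofNat 16, .ofNat 16, .ofNat 16, .ofNat 24, .negSucc 15, .negSucc 31, .negSucc 47, .ofNat 48, .ofNat
  56, .negSucc 31, .ofNat 16, .negSucc 31, .ofNat 0, .ofNat 0, .negSucc 31, .ofNat 96, .negSucc 79, .negSucc 79,
  .ofNat 24, .ofNat 72, .ofNat 80, .ofNat 48, .negSucc 79, .ofNat 0, .negSucc 15, .ofNat 0, .negSucc 39, .ofNat 0,
  .ofNat 0, .ofNat 32, .ofNat 0, .ofNat 16, .ofNat 0, .negSucc 7, .negSucc 39, .ofNat 0, .negSucc 95, .ofNat 0,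
  .ofNat 0, .negSucc 111, .ofNat 64, .ofNat 48, .ofNat 0, .ofNat 16, .ofNat 0, .ofNat 0, .ofNat 0, .negSucc 31,
  .ofNat 0, .ofNat 32]

/-- the values at 10D -/
def col50 : List ℤ :=
  [.negSucc 1, .ofNat 6, .negSucc 3, .ofNat 6, .negSucc 5, .negSucc 15, .negSucc 11, .ofNat 12, .negSucc 1, .ofNat
  6, .ofNat 18, .negSucc 13, .negSucc 11, .negSucc 19, .negSucc 29, .ofNat 8, .negSucc 3, .ofNat 0, .ofNat 0,
  .negSucc 25, .negSucc 27, .ofNat 0, .ofNat 48, .ofNat 0, .ofNat 0, .negSucc 15, .ofNat 60, .negSucc 19, .ofNat 10,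
  .ofNat 30, .negSucc 27, .ofNat 0, .ofNat 26, .ofNat 20, .ofNat 42, .negSucc 29, .ofNat 0, .negSucc 65, .ofNat 0,
  .ofNat 0, .ofNat 48, .negSucc 15, .ofNat 48, .ofNat 0, .negSucc 23, .ofNat 0, .ofNat 0, .ofNat 0, .ofNat 48,
  .negSucc 19, .negSucc 27]

/-- the values at 10F -/
def col52 : List ℤ :=
  [.ofNat 10, .ofNat 10, .ofNat 20, .ofNat 10, .negSucc 9, .ofNat 0, .ofNat 20, .ofNat 20, .negSucc 29, .ofNat 10,
  .negSucc 9, .ofNat 30, .negSucc 19, .ofNat 20, .negSucc 9, .ofNat 0, .negSucc 19, .ofNat 0, .ofNat 0, .ofNat 10,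
  .ofNat 20, .ofNat 0, .ofNat 0, .ofNat 0, .ofNat 0, .ofNat 0, .ofNat 20, .ofNat 20, .negSucc 9, .ofNat 10, .ofNat
  20, .ofNat 0, .negSucc 9, .ofNat 20, .negSucc 9, .ofNat 30, .ofNat 0, .negSucc 29, .ofNat 0, .ofNat 0, .ofNat 0,
  .ofNat 0, .ofNat 0, .ofNat 0, .ofNat 0, .ofNat 0, .ofNat 0, .ofNat 0, .ofNat 0, .ofNat 20, .negSucc 19]

/-- the values at 11A -/
def col53 : List ℤ :=
  [.ofNat 6, .ofNat 8, .ofNat 10, .ofNat 6, .ofNat 2, .negSucc 1, .ofNat 0, .negSucc 5, .negSucc 1, .negSucc 9,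
  .ofNat 0, .ofNat 0, .ofNat 2, .ofNat 0, .negSucc 5, .ofNat 2, .ofNat 0, .negSucc 1, .negSucc 11, .ofNat 0, .ofNat
  0, .negSucc 7, .ofNat 12, .negSucc 7, .ofNat 0, .ofNat 0, .ofNat 0, .ofNat 6, .ofNat 10, .ofNat 0, .ofNat 0,
  .ofNat 0, .ofNat 0, .ofNat 0, .ofNat 8, .ofNat 0, .ofNat 0, .ofNat 6, .ofNat 0, .ofNat 0, .negSucc 9, .negSucc 5,
  .ofNat 0, .ofNat 0, .negSucc 9, .ofNat 10, .ofNat 8, .ofNat 0, .negSucc 7, .ofNat 0, .ofNat 0]

/-- the values at 12F -/
def col59 : List ℤ :=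
  [.negSucc 3, .negSucc 11, .negSucc 3, .ofNat 8, .negSucc 47, .ofNat 0, .ofNat 32, .ofNat 8, .negSucc 3, .negSucc
  39, .ofNat 80, .ofNat 24, .negSucc 11, .negSucc 31, .negSucc 39, .negSucc 3, .negSucc 135, .negSucc 59, .ofNat 0,
  .ofNat 16, .ofNat 116, .negSucc 59, .ofNat 0, .ofNat 0, .ofNat 0, .ofNat 48, .ofNat 72, .negSucc 35, .ofNat 84,
  .ofNat 48, .ofNat 64, .ofNat 0, .negSucc 35, .negSucc 63, .negSucc 47, .negSucc 139, .ofNat 120, .ofNat 0,
  .negSucc 39, .negSucc 99, .ofNat 0, .ofNat 0, .ofNat 0, .ofNat 60, .ofNat 60, .negSucc 59, .ofNat 0, .ofNat 20,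
  .ofNat 0, .negSucc 63, .ofNat 64]

/-- the values at 12J -/
def col63 : List ℤ :=
  [.ofNat 8, .ofNat 0, .ofNat 8, .ofNat 8, .negSucc 23, .ofNat 0, .ofNat 8, .ofNat 8, .negSucc 15, .ofNat 56,
  .negSucc 15, .ofNat 0, .negSucc 23, .negSucc 31, .ofNat 56, .ofNat 8, .ofNat 8, .negSucc 23, .ofNat 0, .negSucc 7,
  .negSucc 15, .negSucc 23, .ofNat 0, .ofNat 0, .ofNat 48, .ofNat 24, .ofNat 0, .ofNat 48, .ofNat 48, .negSucc 47,
  .negSucc 31, .ofNat 0, .ofNat 48, .ofNat 32, .negSucc 23, .negSucc 7, .ofNat 48, .ofNat 0, .negSucc 15, .ofNat 8,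
  .ofNat 0, .ofNat 0, .ofNat 0, .ofNat 24, .negSucc 23, .negSucc 23, .ofNat 0, .ofNat 8, .ofNat 0, .negSucc 15,
  .ofNat 16]

/-- the values at 12N -/
def col67 : List ℤ :=
  [.ofNat 2, .negSucc 5, .ofNat 2, .ofNat 8, .ofNat 0, .ofNat 0, .negSucc 15, .ofNat 8, .negSucc 9, .ofNat 8, .ofNat
  32, .negSucc 23, .negSucc 17, .negSucc 31, .ofNat 8, .ofNat 2, .ofNat 8, .negSucc 5, .ofNat 0, .negSucc 31, .ofNat
  14, .negSucc 5, .ofNat 0, .ofNat 0, .ofNat 24, .ofNat 0, .negSucc 35, .ofNat 6, .negSucc 5, .ofNat 0, .ofNat 16,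
  .ofNat 0, .ofNat 6, .negSucc 15, .ofNat 0, .negSucc 1, .ofNat 12, .ofNat 0, .negSucc 27, .negSucc 9, .ofNat 0,
  .ofNat 0, .ofNat 0, .ofNat 6, .ofNat 18, .ofNat 30, .ofNat 0, .negSucc 21, .ofNat 0, .ofNat 32, .negSucc 31]

/-- the values at 12S -/
def col72 : List ℤ :=
  [.ofNat 6, .ofNat 6, .ofNat 6, .ofNat 0, .ofNat 0, .ofNat 0, .ofNat 0, .ofNat 0, .negSucc 5, .ofNat 0, .ofNat 0,
  .ofNat 0, .negSucc 5, .ofNat 0, .ofNat 0, .ofNat 6, .ofNat 0, .ofNat 6, .ofNat 0, .ofNat 0, .negSucc 5, .ofNat 6,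
  .ofNat 0, .ofNat 0, .ofNat 24, .ofNat 0, .negSucc 11, .negSucc 5, .ofNat 6, .ofNat 0, .ofNat 0, .ofNat 0, .negSucc
  5, .ofNat 0, .ofNat 0, .negSucc 5, .negSucc 11, .ofNat 0, .ofNat 12, .negSucc 5, .ofNat 0, .ofNat 0, .ofNat 0,
  .negSucc 5, .ofNat 6, .negSucc 5, .ofNat 0, .ofNat 6, .ofNat 0, .ofNat 0, .ofNat 0]

/-- the values at 13A -/
def col74 : List ℤ :=
  [.ofNat 4, .ofNat 4, .ofNat 4, .ofNat 0, .ofNat 0, .ofNat 0, .negSucc 3, .ofNat 0, .ofNat 0, .ofNat 0, .negSucc 3,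
  .negSucc 3, .ofNat 0, .ofNat 0, .ofNat 0, .ofNat 0, .ofNat 0, .ofNat 0, .ofNat 8, .ofNat 0, .ofNat 0, .ofNat 4,
  .ofNat 0, .ofNat 0, .negSucc 7, .ofNat 4, .ofNat 0, .ofNat 4, .ofNat 0, .ofNat 0, .ofNat 0, .ofNat 4, .ofNat 0,
  .negSucc 3, .ofNat 0, .ofNat 0, .ofNat 0, .ofNat 0, .ofNat 0, .negSucc 3, .ofNat 0, .ofNat 0, .ofNat 0, .ofNat 0,
  .ofNat 0, .negSucc 3, .ofNat 4, .negSucc 3, .ofNat 4, .ofNat 0, .ofNat 0]

/-- the values at 14D -/
def col78 : List ℤ :=
  [.ofNat 4, .ofNat 4, .ofNat 0, .ofNat 4, .negSucc 3, .ofNat 0, .negSucc 3, .negSucc 15, .ofNat 8, .ofNat 4, .ofNat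
  8, .ofNat 16, .negSucc 3, .ofNat 8, .negSucc 3, .ofNat 4, .ofNat 0, .negSucc 11, .ofNat 16, .negSucc 15, .ofNat 4,
  .negSucc 3, .negSucc 15, .ofNat 0, .ofNat 0, .ofNat 0, .ofNat 0, .ofNat 0, .ofNat 0, .ofNat 0, .negSucc 3, .ofNat
  0, .negSucc 3, .ofNat 4, .ofNat 0, .ofNat 0, .negSucc 7, .ofNat 4, .ofNat 0, .ofNat 4, .ofNat 0, .ofNat 0,
  .negSucc 7, .negSucc 7, .negSucc 3, .ofNat 0, .ofNat 0, .ofNat 0, .ofNat 8, .ofNat 0, .ofNat 0]

/-- the values at 15A -/
def col80 : List ℤ :=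
  [.ofNat 2, .ofNat 6, .negSucc 1, .negSucc 3, .ofNat 16, .negSucc 3, .negSucc 1, .negSucc 7, .negSucc 7, .ofNat 2,
  .ofNat 6, .negSucc 1, .negSucc 1, .ofNat 0, .ofNat 2, .negSucc 3, .ofNat 16, .ofNat 20, .ofNat 20, .ofNat 16,
  .ofNat 16, .negSucc 19, .ofNat 0, .negSucc 11, .ofNat 0, .negSucc 13, .ofNat 0, .ofNat 12, .ofNat 0, .ofNat 0,
  .ofNat 2, .ofNat 16, .negSucc 3, .ofNat 8, .negSucc 1, .negSucc 13, .ofNat 0, .ofNat 0, .ofNat 0, .ofNat 0,
  .negSucc 3, .negSucc 3, .ofNat 0, .ofNat 0, .negSucc 1, .ofNat 0, .negSucc 15, .ofNat 0, .ofNat 14, .ofNat 0,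
  .ofNat 2]

/-- the values at 15B -/
def col81 : List ℤ :=
  [.ofNat 3, .ofNat 2, .ofNat 1, .ofNat 0, .negSucc 1, .ofNat 0, .ofNat 0, .negSucc 1, .negSucc 0, .negSucc 1,
  .ofNat 2, .ofNat 1, .ofNat 2, .negSucc 1, .ofNat 2, .negSucc 0, .negSucc 0, .ofNat 0, .ofNat 0, .ofNat 3, .ofNat
  1, .ofNat 0, .ofNat 0, .ofNat 0, .ofNat 0, .ofNat 1, .negSucc 1, .negSucc 2, .negSucc 2, .ofNat 2, .negSucc 2,
  .ofNat 0, .ofNat 5, .ofNat 1, .negSucc 1, .ofNat 0, .ofNat 0, .ofNat 0, .ofNat 0, .ofNat 0, .ofNat 0, .ofNat 0,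
  .ofNat 0, .ofNat 0, .ofNat 0, .ofNat 0, .ofNat 0, .ofNat 0, .ofNat 0, .ofNat 1, .negSucc 0]

/-- the values at 16G -/
def col87 : List ℤ :=
  [.negSucc 3, .ofNat 0, .ofNat 0, .ofNat 0, .ofNat 4, .ofNat 0, .negSucc 3, .ofNat 0, .ofNat 4, .negSucc 3, .ofNat
  0, .ofNat 0, .ofNat 0, .ofNat 0, .ofNat 0, .ofNat 0, .negSucc 3, .ofNat 0, .ofNat 0, .ofNat 0, .ofNat 4, .ofNat 0,
  .ofNat 0, .ofNat 0, .ofNat 8, .ofNat 0, .ofNat 0, .ofNat 4, .ofNat 0, .ofNat 0, .ofNat 0, .ofNat 0, .ofNat 4,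
  .ofNat 0, .ofNat 0, .ofNat 4, .ofNat 0, .ofNat 0, .ofNat 0, .ofNat 0, .ofNat 0, .ofNat 0, .ofNat 8, .negSucc 3,
  .ofNat 0, .negSucc 3, .ofNat 0, .ofNat 0, .ofNat 0, .ofNat 0, .ofNat 0]

/-- the values at 17A -/
def col89 : List ℤ :=
  [.ofNat 2, .ofNat 2, .ofNat 0, .negSucc 1, .ofNat 2, .ofNat 0, .negSucc 1, .ofNat 0, .ofNat 0, .ofNat 0, .ofNat 0,
  .ofNat 0, .ofNat 0, .ofNat 0, .ofNat 0, .ofNat 0, .ofNat 0, .ofNat 2, .negSucc 3, .negSucc 1, .ofNat 0, .ofNat 0,
  .negSucc 3, .ofNat 0, .ofNat 0, .ofNat 0, .ofNat 4, .ofNat 0, .ofNat 0, .ofNat 0, .ofNat 0, .negSucc 3, .ofNat 0,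
  .ofNat 0, .negSucc 1, .ofNat 0, .ofNat 0, .ofNat 0, .ofNat 0, .ofNat 0, .ofNat 0, .ofNat 0, .ofNat 0, .ofNat 2,
  .ofNat 0, .ofNat 0, .ofNat 0, .ofNat 0, .ofNat 0, .ofNat 0, .ofNat 0]

/-- the values at 18C -/
def col91 : List ℤ :=
  [.ofNat 2, .ofNat 2, .ofNat 0, .negSucc 1, .ofNat 2, .ofNat 4, .negSucc 5, .ofNat 0, .ofNat 4, .ofNat 4, .negSucc
  3, .ofNat 4, .ofNat 0, .negSucc 3, .ofNat 0, .ofNat 2, .ofNat 0, .negSucc 1, .ofNat 4, .ofNat 6, .negSucc 1,
  .ofNat 0, .ofNat 0, .ofNat 8, .ofNat 4, .ofNat 0, .ofNat 0, .ofNat 0, .negSucc 1, .ofNat 2, .ofNat 2, .ofNat 0,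
  .negSucc 1, .ofNat 0, .ofNat 0, .ofNat 0, .ofNat 8, .ofNat 0, .negSucc 3, .negSucc 3, .ofNat 4, .negSucc 3, .ofNat
  0, .negSucc 1, .ofNat 0, .ofNat 8, .ofNat 0, .ofNat 4, .negSucc 1, .negSucc 3, .negSucc 1]

/-- the values at 18E -/
def col93 : List ℤ :=
  [.negSucc 2, .ofNat 0, .ofNat 0, .ofNat 3, .ofNat 0, .ofNat 0, .negSucc 2, .negSucc 2, .ofNat 3, .ofNat 0, .ofNat
  0, .ofNat 0, .ofNat 0, .ofNat 6, .ofNat 3, .ofNat 3, .negSucc 2, .ofNat 0, .ofNat 0, .ofNat 3, .negSucc 2, .ofNat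
  0, .ofNat 0, .ofNat 0, .ofNat 0, .ofNat 0, .ofNat 0, .ofNat 0, .ofNat 0, .ofNat 0, .ofNat 3, .ofNat 0, .ofNat 0,
  .ofNat 3, .ofNat 0, .negSucc 2, .ofNat 0, .ofNat 0, .ofNat 6, .ofNat 0, .ofNat 0, .ofNat 0, .ofNat 0, .ofNat 6,
  .ofNat 0, .ofNat 0, .ofNat 0, .negSucc 2, .ofNat 0, .ofNat 3, .negSucc 2]

/-- the values at 19A -/
def col95 : List ℤ :=
  [.ofNat 2, .ofNat 0, .ofNat 0, .ofNat 0, .negSucc 1, .ofNat 0, .ofNat 0, .ofNat 0, .ofNat 0, .ofNat 0, .ofNat 0,
  .ofNat 0, .ofNat 2, .ofNat 0, .ofNat 0, .ofNat 0, .ofNat 0, .ofNat 0, .ofNat 0, .ofNat 0, .ofNat 0, .ofNat 0,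
  .negSucc 1, .ofNat 0, .ofNat 0, .ofNat 0, .ofNat 0, .ofNat 0, .ofNat 0, .negSucc 1, .ofNat 2, .ofNat 0, .ofNat 0,
  .ofNat 0, .ofNat 2, .ofNat 0, .ofNat 0, .ofNat 0, .ofNat 0, .ofNat 0, .ofNat 0, .ofNat 0, .ofNat 4, .ofNat 0,
  .ofNat 0, .ofNat 0, .negSucc 1, .ofNat 0, .ofNat 0, .ofNat 0, .ofNat 0]

/-- the values at 20G -/
def col102 : List ℤ :=
  [.negSucc 1, .negSucc 1, .ofNat 4, .negSucc 1, .ofNat 2, .ofNat 0, .negSucc 3, .ofNat 4, .negSucc 1, .ofNat 6,
  .negSucc 5, .ofNat 2, .ofNat 4, .ofNat 4, .negSucc 5, .negSucc 7, .negSucc 3, .ofNat 0, .ofNat 0, .negSucc 1,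
  .ofNat 4, .ofNat 0, .ofNat 0, .ofNat 0, .ofNat 0, .ofNat 0, .negSucc 3, .negSucc 3, .ofNat 2, .negSucc 1, .negSucc
  3, .ofNat 0, .ofNat 2, .ofNat 4, .ofNat 2, .negSucc 5, .ofNat 0, .ofNat 6, .ofNat 0, .ofNat 0, .ofNat 0, .ofNat 0,
  .ofNat 0, .ofNat 0, .ofNat 0, .ofNat 0, .ofNat 0, .ofNat 0, .ofNat 0, .ofNat 4, .negSucc 3]

/-- the values at 21A -/
def col106 : List ℤ :=
  [.ofNat 2, .negSucc 1, .ofNat 2, .ofNat 0, .negSucc 3, .ofNat 0, .negSucc 3, .ofNat 4, .ofNat 2, .ofNat 2, .ofNat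
  0, .negSucc 3, .ofNat 0, .ofNat 4, .ofNat 2, .ofNat 4, .ofNat 0, .negSucc 1, .negSucc 3, .ofNat 4, .ofNat 4,
  .negSucc 3, .ofNat 0, .ofNat 0, .ofNat 0, .ofNat 0, .ofNat 0, .ofNat 0, .ofNat 0, .ofNat 2, .negSucc 3, .negSucc
  3, .negSucc 3, .negSucc 1, .ofNat 0, .ofNat 0, .negSucc 3, .ofNat 0, .ofNat 0, .ofNat 4, .ofNat 0, .ofNat 0,
  .ofNat 0, .negSucc 1, .ofNat 0, .ofNat 0, .ofNat 0, .ofNat 0, .ofNat 2, .ofNat 0, .ofNat 0]

/-- the values at 22B -/
def col108 : List ℤ :=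
  [.ofNat 2, .ofNat 0, .negSucc 1, .ofNat 2, .negSucc 1, .ofNat 2, .ofNat 0, .negSucc 1, .ofNat 2, .ofNat 2, .ofNat
  0, .ofNat 0, .negSucc 1, .ofNat 0, .negSucc 1, .negSucc 1, .ofNat 0, .ofNat 2, .negSucc 3, .ofNat 0, .ofNat 0,
  .ofNat 0, .ofNat 4, .ofNat 0, .ofNat 0, .ofNat 0, .ofNat 0, .ofNat 2, .negSucc 1, .ofNat 0, .ofNat 0, .ofNat 0,
  .ofNat 0, .ofNat 0, .ofNat 0, .ofNat 0, .ofNat 0, .ofNat 2, .ofNat 0, .ofNat 0, .ofNat 2, .negSucc 1, .ofNat 0,
  .ofNat 0, .ofNat 2, .negSucc 1, .ofNat 0, .ofNat 0, .ofNat 0, .ofNat 0, .ofNat 0]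

/-- the values at 23AB -/
def col109 : List ℤ :=
  [.ofNat 1, .ofNat 1, .negSucc 0, .negSucc 0, .ofNat 1, .ofNat 2, .ofNat 0, .ofNat 0, .ofNat 0, .ofNat 0, .ofNat 1,
  .ofNat 0, .ofNat 0, .ofNat 2, .ofNat 0, .ofNat 0, .negSucc 0, .ofNat 0, .ofNat 0, .ofNat 0, .ofNat 0, .ofNat 0,
  .ofNat 2, .ofNat 2, .negSucc 0, .ofNat 0, .negSucc 1, .ofNat 0, .ofNat 1, .negSucc 0, .ofNat 0, .ofNat 0, .ofNat
  0, .ofNat 0, .ofNat 0, .ofNat 0, .ofNat 0, .negSucc 0, .negSucc 0, .ofNat 1, .ofNat 0, .ofNat 1, .ofNat 0, .ofNat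
  0, .ofNat 0, .ofNat 0, .ofNat 0, .ofNat 0, .ofNat 0, .ofNat 0, .ofNat 0]

/-- the values at 24J -/
def col119 : List ℤ :=
  [.negSucc 1, .ofNat 2, .negSucc 1, .ofNat 4, .ofNat 0, .ofNat 0, .ofNat 0, .negSucc 3, .negSucc 1, .ofNat 4,
  .ofNat 0, .negSucc 3, .ofNat 2, .ofNat 0, .ofNat 4, .negSucc 1, .negSucc 3, .ofNat 2, .ofNat 0, .ofNat 0, .ofNat
  2, .ofNat 2, .ofNat 0, .ofNat 0, .ofNat 0, .ofNat 0, .ofNat 4, .negSucc 1, .ofNat 2, .ofNat 0, .ofNat 0, .ofNat 0,
  .negSucc 1, .ofNat 0, .ofNat 0, .ofNat 2, .negSucc 3, .ofNat 0, .negSucc 3, .negSucc 1, .ofNat 0, .ofNat 0, .ofNat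
  0, .negSucc 1, .negSucc 1, .ofNat 2, .ofNat 0, .ofNat 2, .ofNat 0, .ofNat 0, .ofNat 0]

/-- the values at 25A -/
def col124 : List ℤ :=
  [.ofNat 1, .ofNat 0, .ofNat 0, .negSucc 0, .ofNat 0, .negSucc 1, .negSucc 0, .ofNat 1, .ofNat 1, .ofNat 0, .ofNat
  0, .ofNat 0, .ofNat 0, .ofNat 0, .ofNat 1, .ofNat 0, .negSucc 0, .ofNat 0, .ofNat 0, .negSucc 0, .ofNat 0, .ofNat
  0, .ofNat 2, .negSucc 1, .ofNat 0, .ofNat 0, .ofNat 0, .negSucc 0, .ofNat 0, .ofNat 0, .ofNat 1, .ofNat 2, .ofNat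
  0, .ofNat 1, .ofNat 0, .ofNat 1, .ofNat 0, .ofNat 0, .ofNat 0, .ofNat 0, .ofNat 0, .negSucc 0, .negSucc 1, .ofNat
  0, .ofNat 0, .ofNat 0, .negSucc 0, .ofNat 0, .ofNat 0, .ofNat 0, .ofNat 1]

/-- the values at 27A -/
def col127 : List ℤ :=
  [.ofNat 1, .ofNat 0, .negSucc 0, .ofNat 0, .ofNat 0, .negSucc 1, .ofNat 1, .ofNat 0, .ofNat 0, .ofNat 0, .ofNat 0,
  .negSucc 0, .ofNat 0, .ofNat 2, .ofNat 0, .negSucc 0, .ofNat 0, .ofNat 0, .ofNat 2, .ofNat 0, .ofNat 1, .ofNat 1,
  .ofNat 0, .ofNat 0, .ofNat 2, .ofNat 0, .ofNat 0, .ofNat 0, .ofNat 0, .ofNat 0, .ofNat 0, .negSucc 1, .ofNat 0,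
  .ofNat 0, .ofNat 0, .ofNat 0, .ofNat 2, .ofNat 0, .ofNat 2, .ofNat 1, .ofNat 0, .negSucc 0, .ofNat 0, .ofNat 0,
  .ofNat 0, .ofNat 1, .ofNat 1, .negSucc 0, .ofNat 0, .negSucc 0, .ofNat 0]

/-- the values at 28E -/
def col132 : List ℤ :=
  [.ofNat 2, .negSucc 1, .ofNat 0, .negSucc 1, .ofNat 2, .ofNat 0, .ofNat 2, .ofNat 0, .ofNat 0, .ofNat 2, .ofNat 0,
  .ofNat 0, .negSucc 1, .ofNat 4, .ofNat 2, .negSucc 1, .ofNat 0, .negSucc 1, .ofNat 0, .ofNat 0, .negSucc 1,
  .negSucc 1, .ofNat 0, .ofNat 0, .ofNat 0, .ofNat 0, .ofNat 0, .ofNat 0, .ofNat 0, .ofNat 4, .ofNat 2, .ofNat 0,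
  .ofNat 2, .negSucc 1, .ofNat 0, .ofNat 0, .negSucc 3, .ofNat 2, .ofNat 0, .negSucc 1, .ofNat 0, .ofNat 0, .ofNat
  4, .ofNat 0, .negSucc 1, .ofNat 0, .ofNat 0, .ofNat 0, .ofNat 0, .ofNat 0, .ofNat 0]

/-- the values at 30E -/
def col137 : List ℤ :=
  [.ofNat 2, .negSucc 1, .negSucc 1, .ofNat 4, .ofNat 0, .negSucc 3, .negSucc 1, .ofNat 0, .ofNat 0, .ofNat 2,
  .negSucc 1, .negSucc 1, .negSucc 1, .ofNat 0, .negSucc 5, .ofNat 4, .ofNat 0, .ofNat 4, .ofNat 4, .ofNat 0, .ofNat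
  0, .negSucc 3, .ofNat 0, .ofNat 4, .ofNat 0, .ofNat 2, .ofNat 0, .negSucc 3, .ofNat 0, .ofNat 0, .ofNat 2, .ofNat
  0, .ofNat 4, .ofNat 0, .negSucc 1, .ofNat 2, .ofNat 0, .ofNat 0, .ofNat 0, .ofNat 0, .negSucc 3, .ofNat 4, .ofNat
  0, .ofNat 0, .negSucc 1, .ofNat 0, .ofNat 0, .ofNat 0, .negSucc 1, .ofNat 0, .ofNat 2]

/-- the values at 30F -/
def col138 : List ℤ :=
  [.ofNat 1, .negSucc 1, .negSucc 0, .ofNat 4, .ofNat 2, .ofNat 0, .negSucc 3, .ofNat 2, .negSucc 2, .negSucc 1,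
  .ofNat 2, .ofNat 3, .negSucc 1, .ofNat 2, .ofNat 2, .negSucc 2, .ofNat 1, .ofNat 0, .ofNat 0, .ofNat 1, .negSucc
  0, .ofNat 0, .ofNat 0, .ofNat 0, .ofNat 0, .ofNat 3, .ofNat 2, .negSucc 0, .negSucc 0, .negSucc 1, .negSucc 0,
  .ofNat 0, .negSucc 0, .negSucc 0, .ofNat 2, .ofNat 0, .ofNat 0, .ofNat 0, .ofNat 0, .ofNat 0, .ofNat 0, .ofNat 0,
  .ofNat 0, .ofNat 0, .ofNat 0, .ofNat 0, .ofNat 0, .ofNat 0, .ofNat 0, .negSucc 0, .ofNat 1]

/-- the values at 30GH -/
def col139 : List ℤ :=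
  [.ofNat 1, .ofNat 0, .negSucc 0, .ofNat 0, .ofNat 0, .negSucc 3, .ofNat 0, .ofNat 0, .ofNat 1, .ofNat 0, .ofNat 0,
  .ofNat 1, .ofNat 0, .negSucc 1, .ofNat 0, .negSucc 0, .negSucc 0, .ofNat 0, .ofNat 0, .ofNat 1, .negSucc 0, .ofNat
  0, .ofNat 0, .ofNat 0, .ofNat 0, .negSucc 0, .ofNat 0, .ofNat 1, .ofNat 1, .ofNat 0, .negSucc 0, .ofNat 0,
  .negSucc 0, .negSucc 0, .ofNat 0, .ofNat 0, .ofNat 0, .ofNat 0, .ofNat 0, .ofNat 0, .ofNat 0, .ofNat 2, .ofNat 0,
  .ofNat 0, .ofNat 0, .ofNat 0, .ofNat 0, .ofNat 0, .ofNat 0, .ofNat 1, .negSucc 0]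

/-- the values at 31AB -/
def col140 : List ℤ :=
  [.ofNat 1, .negSucc 0, .ofNat 0, .ofNat 0, .ofNat 0, .ofNat 2, .ofNat 0, .ofNat 0, .ofNat 0, .ofNat 0, .ofNat 0,
  .ofNat 0, .ofNat 1, .ofNat 0, .ofNat 0, .ofNat 0, .ofNat 0, .ofNat 0, .ofNat 0, .ofNat 0, .ofNat 0, .ofNat 0,
  .ofNat 0, .ofNat 0, .ofNat 2, .negSucc 0, .ofNat 2, .ofNat 0, .ofNat 0, .ofNat 0, .ofNat 0, .ofNat 2, .ofNat 0,
  .ofNat 0, .ofNat 0, .ofNat 0, .ofNat 0, .ofNat 0, .ofNat 0, .ofNat 0, .ofNat 0, .ofNat 1, .negSucc 0, .ofNat 0,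
  .ofNat 0, .ofNat 0, .ofNat 1, .negSucc 0, .ofNat 0, .ofNat 0, .ofNat 0]

/-- the values at 33A -/
def col143 : List ℤ :=
  [.ofNat 0, .ofNat 2, .negSucc 1, .ofNat 0, .ofNat 2, .negSucc 1, .ofNat 0, .ofNat 0, .negSucc 1, .ofNat 2, .ofNat
  0, .ofNat 0, .ofNat 2, .ofNat 0, .ofNat 0, .ofNat 2, .ofNat 0, .negSucc 1, .ofNat 0, .ofNat 0, .ofNat 0, .negSucc
  1, .ofNat 0, .negSucc 1, .ofNat 0, .ofNat 0, .ofNat 0, .ofNat 0, .negSucc 1, .ofNat 0, .ofNat 0, .ofNat 0, .ofNat
  0, .ofNat 0, .ofNat 2, .ofNat 0, .ofNat 0, .ofNat 0, .ofNat 0, .ofNat 0, .ofNat 2, .ofNat 0, .ofNat 0, .ofNat 0,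
  .ofNat 2, .negSucc 1, .ofNat 2, .ofNat 0, .negSucc 1, .ofNat 0, .ofNat 0]

/-- the values at 35A -/
def col146 : List ℤ :=
  [.ofNat 0, .ofNat 2, .negSucc 1, .ofNat 0, .ofNat 0, .ofNat 0, .ofNat 0, .ofNat 2, .ofNat 0, .ofNat 0, .ofNat 2,
  .negSucc 1, .negSucc 1, .ofNat 0, .negSucc 1, .ofNat 0, .ofNat 0, .negSucc 1, .negSucc 1, .ofNat 2, .ofNat 0,
  .ofNat 2, .negSucc 3, .ofNat 0, .ofNat 0, .ofNat 0, .ofNat 0, .ofNat 0, .ofNat 0, .ofNat 0, .ofNat 0, .ofNat 4,
  .ofNat 0, .ofNat 2, .ofNat 0, .ofNat 0, .ofNat 0, .ofNat 2, .ofNat 0, .ofNat 0, .ofNat 0, .ofNat 0, .ofNat 0,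
  .ofNat 0, .negSucc 1, .ofNat 0, .ofNat 0, .ofNat 0, .ofNat 0, .ofNat 0, .ofNat 0]

/-- the values at 36C -/
def col149 : List ℤ :=
  [.negSucc 0, .ofNat 0, .ofNat 2, .negSucc 0, .ofNat 0, .ofNat 0, .negSucc 0, .negSucc 0, .negSucc 0, .ofNat 2,
  .ofNat 2, .ofNat 0, .ofNat 0, .negSucc 1, .negSucc 0, .negSucc 0, .negSucc 0, .ofNat 0, .ofNat 0, .ofNat 1,
  .negSucc 0, .ofNat 0, .ofNat 0, .ofNat 0, .ofNat 0, .ofNat 0, .ofNat 0, .ofNat 0, .ofNat 0, .ofNat 0, .ofNat 1,
  .ofNat 0, .ofNat 0, .negSucc 0, .ofNat 0, .ofNat 1, .ofNat 0, .ofNat 0, .ofNat 2, .ofNat 2, .ofNat 0, .ofNat 0,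
  .ofNat 0, .ofNat 0, .ofNat 0, .ofNat 0, .ofNat 0, .negSucc 0, .ofNat 0, .negSucc 0, .ofNat 1]

/-- the values at 39A -/
def col151 : List ℤ :=
  [.ofNat 1, .negSucc 1, .ofNat 1, .ofNat 0, .ofNat 0, .ofNat 0, .negSucc 0, .ofNat 0, .ofNat 0, .ofNat 0, .ofNat 2,
  .negSucc 0, .ofNat 0, .ofNat 0, .ofNat 0, .ofNat 0, .ofNat 0, .ofNat 0, .ofNat 2, .ofNat 0, .ofNat 0, .ofNat 1,
  .ofNat 0, .ofNat 0, .negSucc 1, .negSucc 1, .ofNat 0, .ofNat 1, .ofNat 0, .ofNat 0, .ofNat 0, .negSucc 1, .ofNat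
  0, .ofNat 2, .ofNat 0, .ofNat 0, .ofNat 0, .ofNat 0, .ofNat 0, .negSucc 0, .ofNat 0, .ofNat 0, .ofNat 0, .ofNat 0,
  .ofNat 0, .negSucc 0, .ofNat 1, .ofNat 2, .negSucc 1, .ofNat 0, .ofNat 0]

/-- the values at 46AB -/
def col161 : List ℤ :=
  [.negSucc 0, .ofNat 1, .ofNat 1, .negSucc 0, .negSucc 0, .negSucc 1, .ofNat 0, .ofNat 0, .ofNat 0, .ofNat 0,
  .ofNat 1, .ofNat 0, .ofNat 0, .ofNat 2, .ofNat 0, .ofNat 0, .ofNat 1, .ofNat 0, .ofNat 0, .ofNat 0, .ofNat 0,
  .ofNat 0, .ofNat 2, .ofNat 2, .ofNat 1, .ofNat 0, .ofNat 2, .ofNat 0, .negSucc 0, .negSucc 0, .ofNat 0, .ofNat 0,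
  .ofNat 0, .ofNat 0, .ofNat 0, .ofNat 0, .ofNat 0, .ofNat 1, .negSucc 0, .negSucc 0, .ofNat 0, .ofNat 1, .ofNat 0,
  .ofNat 0, .ofNat 0, .ofNat 0, .ofNat 0, .ofNat 0, .ofNat 0, .ofNat 0, .ofNat 0]

/-- the values at 47AB -/
def col162 : List ℤ :=
  [.ofNat 0, .ofNat 1, .negSucc 0, .ofNat 0, .ofNat 0, .ofNat 2, .ofNat 0, .ofNat 1, .ofNat 0, .ofNat 0, .ofNat 0,
  .ofNat 0, .ofNat 0, .negSucc 1, .ofNat 0, .ofNat 0, .ofNat 0, .negSucc 0, .ofNat 2, .ofNat 0, .ofNat 0, .ofNat 0,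
  .ofNat 2, .ofNat 0, .ofNat 0, .ofNat 0, .ofNat 2, .ofNat 0, .ofNat 0, .ofNat 0, .ofNat 0, .negSucc 1, .ofNat 0,
  .ofNat 0, .ofNat 0, .ofNat 0, .negSucc 0, .ofNat 1, .ofNat 2, .ofNat 0, .negSucc 1, .ofNat 0, .ofNat 0, .ofNat 0,
  .ofNat 0, .ofNat 0, .negSucc 0, .ofNat 0, .ofNat 0, .ofNat 1, .ofNat 0]

/-- the values at 55A -/
def col166 : List ℤ :=
  [.ofNat 1, .negSucc 1, .ofNat 0, .ofNat 1, .ofNat 2, .negSucc 1, .ofNat 0, .negSucc 0, .negSucc 1, .ofNat 0,
  .ofNat 0, .ofNat 0, .ofNat 2, .ofNat 0, .negSucc 0, .ofNat 2, .ofNat 0, .negSucc 1, .negSucc 1, .ofNat 0, .ofNat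
  0, .ofNat 2, .ofNat 2, .ofNat 2, .ofNat 0, .ofNat 0, .ofNat 0, .ofNat 1, .ofNat 0, .ofNat 0, .ofNat 0, .ofNat 0,
  .ofNat 0, .ofNat 0, .negSucc 1, .ofNat 0, .ofNat 0, .ofNat 1, .ofNat 0, .ofNat 0, .ofNat 0, .negSucc 0, .ofNat 0,
  .ofNat 0, .ofNat 0, .ofNat 0, .negSucc 1, .ofNat 0, .ofNat 2, .ofNat 0, .ofNat 0]

/-- the values at 60C -/
def col170 : List ℤ :=
  [.ofNat 1, .negSucc 1, .ofNat 1, .negSucc 1, .ofNat 2, .ofNat 0, .ofNat 2, .negSucc 1, .ofNat 1, .ofNat 0, .ofNat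
  0, .negSucc 0, .negSucc 1, .negSucc 1, .ofNat 0, .ofNat 1, .negSucc 0, .ofNat 0, .ofNat 0, .ofNat 1, .ofNat 1,
  .ofNat 0, .ofNat 0, .ofNat 0, .ofNat 0, .ofNat 3, .ofNat 2, .negSucc 0, .negSucc 0, .negSucc 1, .negSucc 0, .ofNat
  0, .negSucc 0, .ofNat 1, .ofNat 2, .ofNat 0, .ofNat 0, .ofNat 0, .ofNat 0, .ofNat 0, .ofNat 0, .ofNat 0, .ofNat 0,
  .ofNat 0, .ofNat 0, .ofNat 0, .ofNat 0, .ofNat 0, .ofNat 0, .ofNat 1, .negSucc 0]

/-- the columns -/
def C : List (List ℤ) :=
  [col0, [], col2, [], [], col5, col6, [], [], [], [], col11, [], [], [], [], [], col17, col18, [], [], col21, [],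
  [], [], col25, [], col27, [], [], col30, [], [], [], [], [], [], [], [], [], col40, [], [], [], [], col45, col46,
  [], col48, [], col50, [], col52, col53, [], [], [], [], [], col59, [], [], [], col63, [], [], [], col67, [], [],
  [], [], col72, [], col74, [], [], [], col78, [], col80, col81, [], [], [], [], [], col87, [], col89, [], col91,
  [], col93, [], col95, [], [], [], [], [], [], col102, [], [], [], col106, [], col108, col109, [], [], [], [], [],
  [], [], [], [], col119, [], [], [], [], col124, [], [], col127, [], [], [], [], col132, [], [], [], [], col137,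
  col138, col139, col140, [], [], col143, [], [], col146, [], [], col149, [], col151, [], [], [], [], [], [], [],
  [], [], col161, col162, [], [], [], col166, [], [], [], col170, [], [], [], []]

/-- the norms -/
def ms : List (ℕ × ℕ) :=
  [(1, 0), (1, 0), (1, 0), (1, 0), (1, 0), (2, 0), (1, 0), (1, 0), (1, 0), (1, 0), (1, 0), (1, 0), (1, 0), (2, 0),
  (1, 0), (1, 0), (1, 0), (1, 0), (2, 0), (1, 0), (1, 0), (1, 0), (2, 0), (2, 0), (2, 0), (1, 0), (2, 0), (1, 0),
  (1, 0), (1, 0), (1, 0), (2, 0), (1, 0), (1, 0), (1, 0), (1, 0), (2, 0), (1, 0), (2, 0), (1, 0), (2, 0), (1, 0),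
  (2, 0), (1, 0), (1, 0), (1, 0), (1, 0), (1, 0), (1, 0), (1, 0), (1, 0)]

/-- the degrees -/
def dg : List ℤ :=
  [.ofNat 96256, .ofNat 10506240, .ofNat 410132480, .ofNat 8844386304, .ofNat 36657653760, .ofNat 53936390144,
  .ofNat 100406462464, .ofNat 772566552576, .ofNat 864538761216, .ofNat 4322693806080, .ofNat 10177847623680, .ofNat
  17069098618880, .ofNat 21400636907520, .ofNat 23459577856000, .ofNat 31123395403776, .ofNat 40345142190080, .ofNat
  60780833777664, .ofNat 60863961600000, .ofNat 77683916800000, .ofNat 93980448866304, .ofNat 110949141022720,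
  .ofNat 138547878400000, .ofNat 168430710030336, .ofNat 235755961319424, .ofNat 261841888000000, .ofNat
  312199319900160, .ofNat 447224633856000, .ofNat 791851002292224, .ofNat 828829551513600, .ofNat 1566852857856000,
  .ofNat 1793872427483136, .ofNat 2642676197359616, .ofNat 2995626807613440, .ofNat 3370903132962816, .ofNat
  3824419701473280, .ofNat 4193877530658816, .ofNat 4215392896000000, .ofNat 4250243698421760, .ofNat
  4490309824000000, .ofNat 4638342016000000, .ofNat 5191647233310720, .ofNat 5191701169700864, .ofNat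
  8580585368070144, .ofNat 8740741152000000, .ofNat 12604975138529280, .ofNat 16972115104000000, .ofNat
  21065543276560384, .ofNat 24089453696000000, .ofNat 24515659148820480, .ofNat 26438944243712000, .ofNat
  29823129106907136]

/-- the row 0 -/
def co0 : List (ℤ × ℕ) × List (ℤ × ℕ) :=
  ([(.ofNat 1, 0)], [])

/-- the row 1 -/
def co1 : List (ℤ × ℕ) × List (ℤ × ℕ) :=
  ([(.negSucc 0, 0)], [(.ofNat 1, 0)])

/-- the row 2 -/
def co2 : List (ℤ × ℕ) × List (ℤ × ℕ) :=
  ([(.ofNat 1, 1)], [(.negSucc 0, 0)])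

/-- the row 3 -/
def co3 : List (ℤ × ℕ) × List (ℤ × ℕ) :=
  ([(.negSucc 0, 1), (.ofNat 1, 2)], [])

/-- the row 4 -/
def co4 : List (ℤ × ℕ) × List (ℤ × ℕ) :=
  ([(.negSucc 0, 1), (.negSucc 0, 2)], [(.ofNat 1, 1)])

/-- the row 5 -/
def co5 : List (ℤ × ℕ) × List (ℤ × ℕ) :=
  ([(.ofNat 6146, 0), (.ofNat 5050, 1), (.ofNat 4279, 14), (.negSucc 1680, 18), (.negSucc 3685, 2), (.negSucc 1209,
  166), (.ofNat 1848, 3), (.ofNat 1924, 4), (.ofNat 2, 167), (.negSucc 3816, 5), (.negSucc 1786, 12), (.negSucc 283,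
  6), (.ofNat 3097, 15), (.negSucc 5525, 7), (.ofNat 3255, 8), (.ofNat 28, 9), (.negSucc 2541, 10), (.ofNat 1341,
  11), (.negSucc 957, 23), (.negSucc 3041, 13), (.ofNat 1536, 19), (.ofNat 5970, 17), (.negSucc 4228, 21), (.ofNat
  1110, 30), (.negSucc 3245, 25), (.negSucc 7162, 20), (.ofNat 8, 168), (.negSucc 728, 32), (.negSucc 2333, 26),
  (.negSucc 83, 24), (.negSucc 32, 38), (.ofNat 16, 28), (.ofNat 95, 40), (.ofNat 2891, 27), (.negSucc 2037, 37),
  (.ofNat 318, 29), (.negSucc 94, 39), (.negSucc 7, 169), (.ofNat 153, 44), (.ofNat 652, 42), (.negSucc 21, 49),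
  (.negSucc 17, 52), (.negSucc 21, 65), (.ofNat 2, 66), (.negSucc 1, 73), (.ofNat 1, 130)], [(.ofNat 2, 0),
  (.negSucc 1890, 1), (.ofNat 1560, 3), (.ofNat 974, 4), (.negSucc 42, 14), (.negSucc 954, 6), (.ofNat 1006, 18),
  (.ofNat 3748, 12), (.ofNat 1519, 9)])

/-- the row 6 -/
def co6 : List (ℤ × ℕ) × List (ℤ × ℕ) :=
  ([(.negSucc 0, 2), (.ofNat 1, 3)], [])

/-- the row 7 -/
def co7 : List (ℤ × ℕ) × List (ℤ × ℕ) :=
  ([(.ofNat 1, 2), (.negSucc 0, 3), (.ofNat 1, 5)], [(.ofNat 1, 0), (.negSucc 0, 1)])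

/-- the row 8 -/
def co8 : List (ℤ × ℕ) × List (ℤ × ℕ) :=
  ([(.ofNat 1, 0), (.ofNat 1, 1), (.ofNat 1, 4)], [(.negSucc 0, 1)])

/-- the row 9 -/
def co9 : List (ℤ × ℕ) × List (ℤ × ℕ) :=
  ([(.negSucc 0, 0), (.negSucc 0, 2), (.negSucc 0, 4), (.negSucc 0, 5), (.ofNat 1, 6)], [(.ofNat 1, 1)])

/-- the row 10 -/
def co10 : List (ℤ × ℕ) × List (ℤ × ℕ) :=
  ([(.negSucc 0, 0), (.negSucc 0, 2), (.negSucc 0, 3), (.negSucc 0, 4), (.negSucc 0, 5)], [(.ofNat 1, 1), (.ofNat 1,
  3)])

/-- the row 11 -/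
def co11 : List (ℤ × ℕ) × List (ℤ × ℕ) :=
  ([(.ofNat 1, 0), (.ofNat 2, 2), (.ofNat 1, 4), (.ofNat 1, 5), (.negSucc 0, 6), (.ofNat 1, 7)], [(.negSucc 0, 1),
  (.negSucc 0, 3)])

/-- the row 12 -/
def co12 : List (ℤ × ℕ) × List (ℤ × ℕ) :=
  ([(.ofNat 1, 2), (.ofNat 1, 3), (.negSucc 0, 4), (.ofNat 1, 8)], [(.negSucc 0, 3)])

/-- the row 13 -/
def co13 : List (ℤ × ℕ) × List (ℤ × ℕ) :=
  ([(.ofNat 1222, 0), (.ofNat 985, 1), (.ofNat 803, 14), (.negSucc 294, 18), (.negSucc 618, 2), (.negSucc 221, 166),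
  (.ofNat 390, 3), (.ofNat 419, 4), (.negSucc 0, 167), (.negSucc 703, 5), (.negSucc 312, 12), (.negSucc 47, 6),
  (.ofNat 602, 15), (.negSucc 995, 7), (.ofNat 674, 8), (.negSucc 7, 9), (.negSucc 452, 10), (.ofNat 315, 11),
  (.negSucc 207, 23), (.negSucc 565, 13), (.ofNat 244, 19), (.ofNat 1131, 17), (.negSucc 802, 21), (.ofNat 188, 30),
  (.negSucc 623, 25), (.negSucc 1365, 20), (.negSucc 124, 32), (.negSucc 380, 26), (.negSucc 8, 24), (.negSucc 2,
  38), (.negSucc 1, 28), (.ofNat 9, 40), (.ofNat 512, 27), (.negSucc 361, 37), (.ofNat 69, 29), (.ofNat 3, 39),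
  (.ofNat 17, 44), (.ofNat 116, 42), (.ofNat 1, 49), (.ofNat 3, 52), (.negSucc 0, 65), (.negSucc 2, 66), (.ofNat 1,
  73)], [(.negSucc 1, 0), (.negSucc 417, 1), (.ofNat 273, 3), (.ofNat 182, 4), (.negSucc 8, 14), (.negSucc 248, 6),
  (.ofNat 174, 18), (.ofNat 744, 12), (.ofNat 262, 9)])

/-- the row 14 -/
def co14 : List (ℤ × ℕ) × List (ℤ × ℕ) :=
  ([(.ofNat 2, 0), (.ofNat 1, 1), (.ofNat 3, 2), (.ofNat 2, 4), (.ofNat 3, 5), (.negSucc 0, 6), (.ofNat 1, 7),
  (.negSucc 0, 8), (.negSucc 0, 9), (.ofNat 1, 10), (.ofNat 1, 13)], [(.negSucc 2, 1), (.negSucc 0, 3), (.ofNat 1,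
  4), (.negSucc 0, 6)])

/-- the row 15 -/
def co15 : List (ℤ × ℕ) × List (ℤ × ℕ) :=
  ([(.negSucc 0, 0), (.negSucc 0, 1), (.negSucc 0, 2), (.ofNat 1, 3), (.negSucc 0, 4), (.negSucc 1, 5), (.ofNat 1,
  12), (.ofNat 1, 6), (.negSucc 0, 7), (.ofNat 2, 8), (.ofNat 1, 9), (.negSucc 0, 13)], [(.ofNat 2, 1), (.negSucc 0,
  4)])

/-- the row 16 -/
def co16 : List (ℤ × ℕ) × List (ℤ × ℕ) :=
  ([(.ofNat 1, 2), (.ofNat 1, 5), (.negSucc 0, 6), (.negSucc 0, 8)], [(.negSucc 0, 1), (.ofNat 1, 4)])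

/-- the row 17 -/
def co17 : List (ℤ × ℕ) × List (ℤ × ℕ) :=
  ([(.ofNat 1, 0), (.ofNat 1, 1), (.ofNat 1, 4), (.ofNat 1, 5), (.negSucc 0, 12), (.negSucc 0, 6), (.negSucc 1, 8),
  (.ofNat 1, 13)], [(.negSucc 0, 0), (.negSucc 0, 1), (.ofNat 1, 4)])

/-- the row 18 -/
def co18 : List (ℤ × ℕ) × List (ℤ × ℕ) :=
  ([(.negSucc 668, 0), (.negSucc 541, 1), (.negSucc 451, 14), (.ofNat 168, 18), (.ofNat 375, 2), (.ofNat 126, 166),
  (.negSucc 203, 3), (.negSucc 222, 4), (.negSucc 0, 167), (.ofNat 391, 5), (.ofNat 185, 12), (.ofNat 27, 6),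
  (.negSucc 329, 15), (.ofNat 568, 7), (.negSucc 356, 8), (.ofNat 6, 9), (.ofNat 259, 10), (.negSucc 165, 11),
  (.ofNat 111, 23), (.ofNat 316, 13), (.negSucc 143, 19), (.negSucc 626, 17), (.ofNat 447, 21), (.negSucc 108, 30),
  (.ofNat 349, 25), (.ofNat 761, 20), (.negSucc 0, 168), (.ofNat 68, 32), (.ofNat 221, 26), (.ofNat 3, 24), (.ofNat
  2, 38), (.negSucc 5, 28), (.negSucc 4, 40), (.negSucc 289, 27), (.ofNat 201, 37), (.negSucc 33, 29), (.ofNat 4,
  39), (.ofNat 1, 169), (.negSucc 10, 44), (.negSucc 63, 42), (.negSucc 2, 52), (.ofNat 1, 66)], [(.ofNat 2, 0),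
  (.ofNat 220, 1), (.negSucc 163, 3), (.negSucc 104, 4), (.ofNat 7, 14), (.ofNat 127, 6), (.negSucc 95, 18),
  (.negSucc 409, 12), (.negSucc 153, 9)])

/-- the row 19 -/
def co19 : List (ℤ × ℕ) × List (ℤ × ℕ) :=
  ([(.negSucc 9, 0), (.negSucc 6, 1), (.negSucc 9, 14), (.ofNat 3, 18), (.ofNat 13, 2), (.ofNat 3, 166), (.negSucc
  0, 4), (.ofNat 8, 5), (.ofNat 6, 12), (.ofNat 3, 6), (.negSucc 3, 15), (.ofNat 14, 7), (.negSucc 0, 8), (.negSucc
  0, 9), (.ofNat 7, 10), (.ofNat 1, 11), (.ofNat 1, 23), (.ofNat 7, 13), (.negSucc 5, 19), (.negSucc 11, 17),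
  (.ofNat 9, 21), (.negSucc 1, 30), (.ofNat 7, 25), (.ofNat 14, 20), (.ofNat 1, 32), (.ofNat 8, 26), (.negSucc 0,
  28), (.negSucc 7, 27), (.ofNat 4, 37), (.negSucc 0, 29), (.negSucc 0, 42)], [(.ofNat 1, 1), (.negSucc 4, 3),
  (.negSucc 3, 4), (.ofNat 1, 14), (.negSucc 2, 6), (.negSucc 1, 18), (.negSucc 4, 12), (.negSucc 4, 9)])

/-- the row 20 -/
def co20 : List (ℤ × ℕ) × List (ℤ × ℕ) :=
  ([(.ofNat 1, 0), (.ofNat 1, 1), (.ofNat 1, 2), (.ofNat 1, 4), (.ofNat 2, 5), (.negSucc 0, 8), (.negSucc 0, 9),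
  (.ofNat 1, 11), (.ofNat 1, 13)], [(.negSucc 1, 1), (.ofNat 1, 4), (.negSucc 0, 6)])

/-- the row 21 -/
def co21 : List (ℤ × ℕ) × List (ℤ × ℕ) :=
  ([(.negSucc 0, 0), (.negSucc 0, 1), (.negSucc 1, 2), (.negSucc 0, 4), (.negSucc 1, 5), (.negSucc 0, 7), (.ofNat 1,
  8), (.negSucc 0, 13)], [(.ofNat 2, 1), (.ofNat 1, 3), (.negSucc 0, 4), (.ofNat 1, 6)])

/-- the row 22 -/
def co22 : List (ℤ × ℕ) × List (ℤ × ℕ) :=
  ([(.negSucc 260, 0), (.negSucc 228, 1), (.negSucc 209, 14), (.ofNat 87, 18), (.ofNat 240, 2), (.ofNat 61, 166),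
  (.negSucc 57, 3), (.negSucc 57, 4), (.negSucc 0, 167), (.ofNat 195, 5), (.ofNat 105, 12), (.ofNat 13, 6),
  (.negSucc 134, 15), (.ofNat 292, 7), (.negSucc 114, 8), (.negSucc 8, 9), (.ofNat 142, 10), (.negSucc 36, 11),
  (.ofNat 34, 23), (.ofNat 150, 13), (.negSucc 93, 19), (.negSucc 283, 17), (.ofNat 204, 21), (.negSucc 63, 30),
  (.ofNat 153, 25), (.ofNat 339, 20), (.negSucc 0, 168), (.ofNat 37, 32), (.ofNat 140, 26), (.ofNat 4, 24), (.ofNat
  2, 38), (.negSucc 5, 28), (.negSucc 7, 40), (.negSucc 147, 27), (.ofNat 103, 37), (.negSucc 14, 29), (.ofNat 10,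
  39), (.ofNat 1, 169), (.negSucc 9, 44), (.negSucc 31, 42), (.negSucc 0, 49), (.negSucc 1, 52), (.ofNat 1, 65)],
  [(.ofNat 2, 0), (.ofNat 55, 1), (.negSucc 97, 3), (.negSucc 53, 4), (.ofNat 6, 14), (.ofNat 13, 6), (.negSucc 47,
  18), (.negSucc 167, 12), (.negSucc 87, 9)])

/-- the row 23 -/
def co23 : List (ℤ × ℕ) × List (ℤ × ℕ) :=
  ([(.ofNat 30, 0), (.ofNat 7, 1), (.negSucc 25, 14), (.ofNat 16, 18), (.ofNat 90, 2), (.ofNat 9, 166), (.ofNat 57,
  3), (.ofNat 46, 4), (.ofNat 22, 5), (.ofNat 36, 12), (.ofNat 7, 6), (.ofNat 19, 15), (.ofNat 60, 7), (.ofNat 59,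
  8), (.negSucc 1, 9), (.ofNat 38, 10), (.ofNat 37, 11), (.negSucc 7, 23), (.ofNat 13, 13), (.negSucc 38, 19),
  (.negSucc 22, 17), (.ofNat 17, 21), (.negSucc 22, 30), (.ofNat 8, 25), (.ofNat 18, 20), (.negSucc 0, 168), (.ofNat
  7, 32), (.ofNat 55, 26), (.ofNat 7, 24), (.ofNat 3, 38), (.negSucc 10, 28), (.negSucc 4, 40), (.negSucc 31, 27),
  (.ofNat 10, 37), (.negSucc 1, 29), (.ofNat 14, 39), (.ofNat 1, 169), (.negSucc 4, 44), (.negSucc 3, 42), (.ofNat
  1, 49)], [(.negSucc 36, 1), (.negSucc 41, 3), (.negSucc 19, 4), (.ofNat 7, 14), (.negSucc 48, 6), (.negSucc 5,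
  18), (.ofNat 14, 12), (.negSucc 34, 9)])

/-- the row 24 -/
def co24 : List (ℤ × ℕ) × List (ℤ × ℕ) :=
  ([(.ofNat 2, 0), (.ofNat 2, 14), (.negSucc 1, 2), (.ofNat 1, 167), (.ofNat 2, 5), (.negSucc 1, 11), (.ofNat 2,
  23), (.negSucc 1, 25), (.ofNat 2, 24), (.ofNat 2, 28), (.negSucc 1, 29)], [])

/-- the row 25 -/
def co25 : List (ℤ × ℕ) × List (ℤ × ℕ) :=
  ([(.negSucc 0, 1), (.ofNat 1, 4), (.ofNat 1, 12)], [(.ofNat 1, 1), (.negSucc 0, 4)])

/-- the row 26 -/
def co26 : List (ℤ × ℕ) × List (ℤ × ℕ) :=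
  ([(.ofNat 251, 0), (.ofNat 214, 1), (.ofNat 168, 14), (.negSucc 73, 18), (.negSucc 146, 2), (.negSucc 46, 166),
  (.ofNat 88, 3), (.ofNat 80, 4), (.negSucc 158, 5), (.negSucc 67, 12), (.negSucc 6, 6), (.ofNat 134, 15), (.negSucc
  222, 7), (.ofNat 141, 8), (.ofNat 4, 9), (.negSucc 103, 10), (.ofNat 54, 11), (.negSucc 30, 23), (.negSucc 126,
  13), (.ofNat 61, 19), (.ofNat 241, 17), (.negSucc 169, 21), (.ofNat 42, 30), (.negSucc 127, 25), (.negSucc 291,
  20), (.ofNat 1, 168), (.negSucc 31, 32), (.negSucc 93, 26), (.negSucc 1, 24), (.negSucc 1, 38), (.negSucc 2, 28),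
  (.ofNat 4, 40), (.ofNat 113, 27), (.negSucc 89, 37), (.ofNat 13, 29), (.negSucc 0, 169), (.ofNat 6, 44), (.ofNat
  28, 42), (.negSucc 1, 52)], [(.ofNat 2, 0), (.negSucc 80, 1), (.ofNat 56, 3), (.ofNat 37, 4), (.ofNat 1, 14),
  (.negSucc 38, 6), (.ofNat 47, 18), (.ofNat 153, 12), (.ofNat 59, 9)])

/-- the row 27 -/
def co27 : List (ℤ × ℕ) × List (ℤ × ℕ) :=
  ([(.ofNat 1, 3), (.negSucc 0, 5), (.ofNat 1, 15), (.ofNat 1, 8), (.negSucc 0, 13)], [])

/-- the row 28 -/
def co28 : List (ℤ × ℕ) × List (ℤ × ℕ) :=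
  ([(.ofNat 1, 0), (.ofNat 1, 14), (.ofNat 1, 4), (.ofNat 1, 8)], [(.negSucc 0, 4)])

/-- the row 29 -/
def co29 : List (ℤ × ℕ) × List (ℤ × ℕ) :=
  ([(.ofNat 1, 1), (.ofNat 1, 2), (.ofNat 2, 6), (.ofNat 1, 8), (.negSucc 0, 13), (.ofNat 1, 17)], [(.negSucc 0, 1),
  (.negSucc 0, 6)])

/-- the row 30 -/
def co30 : List (ℤ × ℕ) × List (ℤ × ℕ) :=
  ([(.negSucc 3, 0), (.negSucc 2, 1), (.negSucc 10, 14), (.ofNat 5, 18), (.ofNat 17, 2), (.ofNat 5, 166), (.ofNat 3,
  3), (.ofNat 5, 4), (.ofNat 14, 5), (.ofNat 6, 12), (.ofNat 1, 6), (.negSucc 2, 15), (.ofNat 19, 7), (.negSucc 0,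
  8), (.negSucc 1, 9), (.ofNat 8, 10), (.ofNat 4, 11), (.ofNat 1, 23), (.ofNat 10, 13), (.negSucc 7, 19), (.negSucc
  14, 17), (.ofNat 9, 21), (.negSucc 3, 30), (.ofNat 7, 25), (.ofNat 14, 20), (.ofNat 2, 32), (.ofNat 12, 26),
  (.ofNat 1, 24), (.negSucc 1, 28), (.negSucc 11, 27), (.ofNat 3, 37), (.negSucc 0, 29), (.ofNat 2, 39), (.negSucc
  0, 42)], [(.negSucc 4, 1), (.negSucc 7, 3), (.negSucc 2, 4), (.ofNat 1, 14), (.negSucc 6, 6), (.negSucc 2, 18),
  (.negSucc 0, 12), (.negSucc 6, 9)])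

/-- the row 31 -/
def co31 : List (ℤ × ℕ) × List (ℤ × ℕ) :=
  ([(.negSucc 320, 0), (.negSucc 265, 1), (.negSucc 169, 14), (.ofNat 70, 18), (.ofNat 85, 2), (.ofNat 39, 166),
  (.negSucc 141, 3), (.negSucc 140, 4), (.ofNat 156, 5), (.ofNat 48, 12), (.negSucc 6, 6), (.negSucc 169, 15),
  (.ofNat 196, 7), (.negSucc 210, 8), (.ofNat 11, 9), (.ofNat 93, 10), (.negSucc 106, 11), (.ofNat 48, 23), (.ofNat
  126, 13), (.negSucc 27, 19), (.negSucc 252, 17), (.ofNat 182, 21), (.negSucc 31, 30), (.ofNat 137, 25), (.ofNat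
  321, 20), (.ofNat 31, 32), (.ofNat 58, 26), (.ofNat 3, 38), (.ofNat 16, 28), (.negSucc 2, 40), (.negSucc 96, 27),
  (.ofNat 95, 37), (.negSucc 17, 29), (.negSucc 9, 39), (.negSucc 5, 44), (.negSucc 26, 42), (.ofNat 2, 52)],
  [(.negSucc 1, 0), (.ofNat 137, 1), (.negSucc 31, 3), (.negSucc 23, 4), (.negSucc 5, 14), (.ofNat 101, 6),
  (.negSucc 46, 18), (.negSucc 197, 12), (.negSucc 41, 9)])

/-- the row 32 -/
def co32 : List (ℤ × ℕ) × List (ℤ × ℕ) :=
  ([(.negSucc 0, 1), (.ofNat 1, 18), (.ofNat 2, 2), (.ofNat 1, 3), (.negSucc 0, 6), (.ofNat 1, 7), (.ofNat 1, 8),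
  (.ofNat 1, 9), (.ofNat 1, 10), (.negSucc 0, 23), (.ofNat 1, 26)], [(.negSucc 0, 3), (.negSucc 0, 9)])

/-- the row 33 -/
def co33 : List (ℤ × ℕ) × List (ℤ × ℕ) :=
  ([(.negSucc 0, 0), (.negSucc 0, 14), (.negSucc 2, 2), (.negSucc 0, 3), (.negSucc 0, 4), (.ofNat 1, 5), (.negSucc
  1, 12), (.negSucc 0, 6), (.negSucc 0, 15), (.negSucc 0, 7), (.negSucc 2, 8), (.ofNat 1, 13), (.ofNat 1, 19),
  (.negSucc 0, 17)], [(.ofNat 1, 3), (.ofNat 2, 4), (.ofNat 1, 6)])

/-- the row 34 -/
def co34 : List (ℤ × ℕ) × List (ℤ × ℕ) :=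
  ([(.negSucc 0, 0), (.negSucc 0, 1), (.negSucc 0, 14), (.negSucc 1, 2), (.negSucc 0, 3), (.negSucc 0, 4), (.ofNat
  1, 5), (.negSucc 0, 12), (.negSucc 0, 6), (.negSucc 0, 15), (.ofNat 1, 7), (.negSucc 2, 8), (.negSucc 0, 11),
  (.ofNat 2, 13), (.negSucc 1, 17), (.ofNat 1, 20)], [(.ofNat 1, 1), (.ofNat 1, 4), (.ofNat 1, 6)])

/-- the row 35 -/
def co35 : List (ℤ × ℕ) × List (ℤ × ℕ) :=
  ([(.negSucc 0, 0), (.negSucc 2, 2), (.negSucc 0, 3), (.negSucc 0, 4), (.negSucc 1, 5), (.ofNat 1, 6), (.negSucc 0,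
  7), (.negSucc 0, 10), (.negSucc 0, 11), (.ofNat 1, 23), (.negSucc 0, 13), (.negSucc 0, 26)], [(.ofNat 2, 1),
  (.ofNat 1, 3), (.negSucc 0, 4), (.ofNat 1, 6), (.ofNat 1, 9)])

/-- the row 36 -/
def co36 : List (ℤ × ℕ) × List (ℤ × ℕ) :=
  ([(.ofNat 11, 0), (.ofNat 10, 1), (.ofNat 6, 14), (.negSucc 0, 18), (.negSucc 9, 2), (.ofNat 1, 166), (.negSucc 3,
  3), (.ofNat 6, 4), (.negSucc 1, 5), (.negSucc 3, 12), (.ofNat 1, 6), (.ofNat 1, 15), (.negSucc 3, 7), (.ofNat 1,
  8), (.negSucc 7, 9), (.negSucc 4, 10), (.ofNat 7, 11), (.negSucc 2, 23), (.ofNat 1, 13), (.negSucc 3, 19), (.ofNat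
  3, 17), (.negSucc 4, 21), (.ofNat 2, 30), (.negSucc 5, 25), (.negSucc 8, 20), (.negSucc 0, 32), (.ofNat 1, 26),
  (.negSucc 0, 24), (.negSucc 0, 38), (.ofNat 1, 28), (.ofNat 1, 27), (.negSucc 0, 39), (.ofNat 1, 44)], [(.negSucc
  0, 0), (.negSucc 3, 1), (.ofNat 7, 3), (.ofNat 1, 4), (.negSucc 0, 14), (.negSucc 5, 6), (.ofNat 10, 12), (.ofNat
  5, 9)])

/-- the row 37 -/
def co37 : List (ℤ × ℕ) × List (ℤ × ℕ) :=
  ([(.negSucc 0, 0), (.negSucc 0, 2), (.negSucc 0, 3), (.negSucc 0, 4), (.negSucc 0, 5), (.negSucc 0, 7), (.negSucc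
  0, 9), (.negSucc 0, 10), (.negSucc 0, 13), (.negSucc 0, 20)], [(.ofNat 1, 0), (.ofNat 1, 3), (.ofNat 1, 6),
  (.ofNat 1, 9)])

/-- the row 38 -/
def co38 : List (ℤ × ℕ) × List (ℤ × ℕ) :=
  ([(.ofNat 301, 0), (.ofNat 249, 1), (.ofNat 163, 14), (.negSucc 65, 18), (.negSucc 90, 2), (.negSucc 38, 166),
  (.ofNat 129, 3), (.ofNat 127, 4), (.negSucc 149, 5), (.negSucc 49, 12), (.ofNat 6, 6), (.ofNat 158, 15), (.negSucc
  190, 7), (.ofNat 196, 8), (.negSucc 7, 9), (.negSucc 89, 10), (.ofNat 95, 11), (.negSucc 43, 23), (.negSucc 121,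
  13), (.ofNat 31, 19), (.ofNat 242, 17), (.negSucc 173, 21), (.ofNat 32, 30), (.negSucc 132, 25), (.negSucc 304,
  20), (.negSucc 29, 32), (.negSucc 58, 26), (.ofNat 1, 24), (.negSucc 1, 38), (.negSucc 11, 28), (.ofNat 3, 40),
  (.ofNat 95, 27), (.negSucc 89, 37), (.ofNat 15, 29), (.ofNat 8, 39), (.ofNat 6, 44), (.ofNat 26, 42), (.negSucc 1,
  52)], [(.ofNat 2, 0), (.negSucc 123, 1), (.ofNat 34, 3), (.ofNat 24, 4), (.ofNat 6, 14), (.negSucc 89, 6), (.ofNat
  44, 18), (.ofNat 186, 12), (.ofNat 42, 9)])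

/-- the row 39 -/
def co39 : List (ℤ × ℕ) × List (ℤ × ℕ) :=
  ([(.ofNat 3, 0), (.ofNat 3, 1), (.ofNat 1, 14), (.negSucc 0, 18), (.ofNat 2, 2), (.ofNat 2, 3), (.ofNat 2, 4),
  (.ofNat 2, 5), (.ofNat 1, 12), (.ofNat 2, 6), (.ofNat 2, 15), (.ofNat 2, 8), (.ofNat 2, 11), (.ofNat 1, 23),
  (.ofNat 2, 17), (.negSucc 0, 21), (.negSucc 0, 20), (.ofNat 1, 24), (.negSucc 0, 27)], [(.negSucc 2, 1), (.negSucc
  0, 3), (.negSucc 2, 6), (.ofNat 1, 12), (.negSucc 0, 9)])

/-- the row 40 -/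
def co40 : List (ℤ × ℕ) × List (ℤ × ℕ) :=
  ([(.negSucc 163, 0), (.negSucc 133, 1), (.negSucc 79, 14), (.ofNat 32, 18), (.ofNat 32, 2), (.ofNat 17, 166),
  (.negSucc 76, 3), (.negSucc 76, 4), (.ofNat 74, 5), (.ofNat 19, 12), (.negSucc 4, 6), (.negSucc 85, 15), (.ofNat
  87, 7), (.negSucc 113, 8), (.ofNat 7, 9), (.ofNat 42, 10), (.negSucc 56, 11), (.ofNat 23, 23), (.ofNat 60, 13),
  (.negSucc 6, 19), (.negSucc 118, 17), (.ofNat 87, 21), (.negSucc 11, 30), (.ofNat 67, 25), (.ofNat 156, 20),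
  (.ofNat 15, 32), (.ofNat 20, 26), (.negSucc 0, 24), (.ofNat 1, 38), (.ofNat 9, 28), (.negSucc 0, 40), (.negSucc
  41, 27), (.ofNat 47, 37), (.negSucc 7, 29), (.negSucc 6, 39), (.negSucc 2, 44), (.negSucc 12, 42), (.ofNat 1,
  52)], [(.negSucc 1, 0), (.ofNat 73, 1), (.negSucc 9, 3), (.negSucc 6, 4), (.negSucc 4, 14), (.ofNat 56, 6),
  (.negSucc 22, 18), (.negSucc 100, 12), (.negSucc 16, 9)])

/-- the row 41 -/
def co41 : List (ℤ × ℕ) × List (ℤ × ℕ) :=
  ([(.negSucc 0, 6), (.ofNat 1, 7), (.ofNat 1, 13), (.negSucc 0, 19), (.negSucc 0, 17), (.ofNat 1, 21)], [])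

/-- the row 42 -/
def co42 : List (ℤ × ℕ) × List (ℤ × ℕ) :=
  ([(.ofNat 9, 0), (.ofNat 7, 1), (.ofNat 1, 18), (.ofNat 10, 2), (.ofNat 1, 166), (.ofNat 8, 3), (.ofNat 8, 4),
  (.negSucc 0, 5), (.ofNat 3, 12), (.ofNat 2, 6), (.ofNat 5, 15), (.ofNat 4, 7), (.ofNat 10, 8), (.ofNat 1, 10),
  (.ofNat 6, 11), (.negSucc 2, 23), (.negSucc 0, 13), (.negSucc 2, 19), (.ofNat 3, 17), (.negSucc 1, 21), (.negSucc
  0, 30), (.negSucc 0, 25), (.negSucc 3, 20), (.ofNat 4, 26), (.negSucc 2, 28), (.negSucc 1, 27), (.negSucc 1, 37),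
  (.ofNat 2, 29), (.ofNat 2, 39)], [(.negSucc 6, 1), (.negSucc 3, 3), (.negSucc 1, 4), (.ofNat 1, 14), (.negSucc 7,
  6), (.ofNat 6, 12), (.negSucc 2, 9)])

/-- the row 43 -/
def co43 : List (ℤ × ℕ) × List (ℤ × ℕ) :=
  ([(.negSucc 0, 0), (.negSucc 0, 1), (.negSucc 0, 4), (.negSucc 0, 5), (.negSucc 0, 7), (.ofNat 1, 9), (.negSucc 0,
  11), (.negSucc 0, 13), (.ofNat 1, 19), (.ofNat 1, 17), (.negSucc 0, 26), (.ofNat 1, 27)], [(.ofNat 1, 1), (.ofNat
  1, 6), (.negSucc 0, 12)])

/-- the row 44 -/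
def co44 : List (ℤ × ℕ) × List (ℤ × ℕ) :=
  ([(.ofNat 2, 0), (.ofNat 1, 1), (.ofNat 4, 2), (.ofNat 3, 3), (.ofNat 1, 4), (.ofNat 1, 12), (.ofNat 2, 15),
  (.ofNat 1, 7), (.ofNat 3, 8), (.ofNat 1, 10), (.ofNat 2, 11), (.negSucc 0, 23), (.negSucc 0, 19), (.ofNat 1, 17),
  (.negSucc 0, 21), (.negSucc 0, 20), (.ofNat 1, 26)], [(.negSucc 1, 1), (.negSucc 1, 3), (.negSucc 1, 6), (.ofNat
  1, 12), (.negSucc 0, 9)])

/-- the row 45 -/
def co45 : List (ℤ × ℕ) × List (ℤ × ℕ) :=
  ([(.negSucc 0, 1), (.ofNat 1, 14), (.negSucc 0, 3), (.ofNat 1, 12), (.negSucc 0, 15), (.negSucc 0, 11), (.ofNat 1,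
  23), (.ofNat 1, 20)], [(.ofNat 1, 1), (.negSucc 0, 4), (.ofNat 1, 6), (.negSucc 0, 12)])

/-- the row 46 -/
def co46 : List (ℤ × ℕ) × List (ℤ × ℕ) :=
  ([(.ofNat 4, 0), (.ofNat 4, 1), (.ofNat 3, 14), (.negSucc 2, 18), (.negSucc 9, 2), (.negSucc 1, 166), (.ofNat 2,
  3), (.negSucc 4, 12), (.negSucc 2, 6), (.ofNat 3, 15), (.negSucc 5, 7), (.negSucc 3, 8), (.negSucc 0, 9),
  (.negSucc 0, 10), (.ofNat 1, 11), (.ofNat 1, 13), (.ofNat 1, 19), (.ofNat 2, 17), (.negSucc 2, 21), (.ofNat 2,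
  30), (.negSucc 2, 25), (.negSucc 5, 20), (.negSucc 0, 32), (.negSucc 1, 26), (.ofNat 1, 24), (.ofNat 1, 28),
  (.ofNat 3, 27), (.negSucc 0, 37), (.negSucc 1, 29), (.negSucc 0, 39), (.ofNat 1, 42)], [(.negSucc 0, 0), (.negSucc
  0, 1), (.ofNat 3, 3), (.ofNat 5, 4), (.negSucc 0, 14), (.ofNat 1, 18), (.ofNat 4, 12), (.ofNat 1, 9)])

/-- the row 47 -/
def co47 : List (ℤ × ℕ) × List (ℤ × ℕ) :=
  ([(.negSucc 0, 0), (.negSucc 0, 14), (.ofNat 1, 2), (.negSucc 0, 5), (.ofNat 1, 11), (.negSucc 0, 23), (.ofNat 1,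
  25), (.negSucc 0, 24), (.negSucc 0, 28), (.ofNat 1, 29)], [])

/-- the row 48 -/
def co48 : List (ℤ × ℕ) × List (ℤ × ℕ) :=
  ([(.ofNat 13, 0), (.ofNat 9, 1), (.ofNat 11, 14), (.negSucc 2, 18), (.negSucc 6, 2), (.negSucc 2, 166), (.ofNat 2,
  3), (.ofNat 4, 4), (.negSucc 8, 5), (.negSucc 2, 12), (.ofNat 5, 15), (.negSucc 12, 7), (.ofNat 8, 8), (.ofNat 1,
  9), (.negSucc 5, 10), (.ofNat 1, 11), (.negSucc 1, 23), (.negSucc 8, 13), (.ofNat 5, 19), (.ofNat 15, 17),
  (.negSucc 8, 21), (.ofNat 2, 30), (.negSucc 7, 25), (.negSucc 14, 20), (.negSucc 0, 32), (.negSucc 5, 26), (.ofNat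
  1, 28), (.ofNat 7, 27), (.negSucc 3, 37), (.ofNat 1, 29), (.ofNat 1, 42)], [(.negSucc 2, 1), (.ofNat 4, 3),
  (.ofNat 1, 4), (.negSucc 0, 6), (.ofNat 2, 18), (.ofNat 6, 12), (.ofNat 4, 9)])

/-- the row 49 -/
def co49 : List (ℤ × ℕ) × List (ℤ × ℕ) :=
  ([(.ofNat 5, 0), (.ofNat 3, 1), (.ofNat 1, 14), (.ofNat 5, 2), (.ofNat 6, 3), (.ofNat 3, 4), (.negSucc 3, 5),
  (.ofNat 2, 12), (.ofNat 1, 6), (.ofNat 4, 15), (.ofNat 9, 8), (.ofNat 1, 9), (.ofNat 2, 11), (.negSucc 0, 23),
  (.negSucc 2, 13), (.negSucc 0, 19), (.ofNat 3, 17), (.negSucc 1, 21), (.negSucc 0, 30), (.negSucc 0, 25),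
  (.negSucc 3, 20), (.ofNat 1, 26), (.negSucc 0, 28), (.ofNat 1, 27), (.negSucc 1, 37), (.ofNat 1, 29), (.ofNat 1,
  39)], [(.ofNat 1, 0), (.negSucc 2, 1), (.negSucc 2, 3), (.negSucc 1, 4), (.ofNat 1, 14), (.negSucc 1, 6), (.ofNat
  1, 18), (.ofNat 2, 12), (.negSucc 0, 9)])

/-- the row 50 -/
def co50 : List (ℤ × ℕ) × List (ℤ × ℕ) :=
  ([(.negSucc 12, 0), (.negSucc 8, 1), (.negSucc 8, 14), (.ofNat 3, 18), (.ofNat 5, 2), (.ofNat 3, 166), (.negSucc
  5, 3), (.negSucc 3, 4), (.ofNat 9, 5), (.ofNat 3, 12), (.ofNat 1, 6), (.negSucc 6, 15), (.ofNat 11, 7), (.negSucc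
  8, 8), (.negSucc 0, 9), (.ofNat 4, 10), (.negSucc 2, 11), (.ofNat 3, 23), (.ofNat 7, 13), (.negSucc 2, 19),
  (.negSucc 12, 17), (.ofNat 9, 21), (.negSucc 1, 30), (.ofNat 7, 25), (.ofNat 15, 20), (.ofNat 1, 32), (.ofNat 4,
  26), (.negSucc 6, 27), (.ofNat 4, 37), (.negSucc 0, 29), (.negSucc 0, 42)], [(.ofNat 4, 1), (.negSucc 1, 3),
  (.negSucc 1, 4), (.ofNat 2, 6), (.negSucc 1, 18), (.negSucc 6, 12), (.negSucc 1, 9)])

/-- the combinations -/
def co : List (List (ℤ × ℕ) × List (ℤ × ℕ)) :=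
  [co0, co1, co2, co3, co4, co5, co6, co7, co8, co9, co10, co11, co12, co13, co14, co15, co16, co17, co18, co19,
  co20, co21, co22, co23, co24, co25, co26, co27, co28, co29, co30, co31, co32, co33, co34, co35, co36, co37, co38,
  co39, co40, co41, co42, co43, co44, co45, co46, co47, co48, co49, co50]

end Cfsg.Agent.MO.S.B2
end

-- part: MO/S/B2/Chk
section
/-!
# The faithful characters of `2.B` : kernel checks (helper39)
-/

set_option autoImplicit false
set_option maxRecDepth 100000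

namespace Cfsg.Agent.MO.S.B2

open Cfsg.Agent.TAB Cfsg.Agent.TAB.Eng Cfsg.Agent.TAB.B.Fin

/-- the first type -/
def a0 (c : ℕ) : ℕ := aL.getD c 0

/-- the second type -/
def b0 (c : ℕ) : ℕ := bL.getD c 0

/-- the allowed pairs -/
def alw (c a b : ℕ) : Bool :=
  (a == a0 c && b == b0 c) || (a == b0 c && b == a0 c) || (c == 88 && ((a == 54 && b == 55) || (a == 55 && b == 54)))

/-- the allowed first members -/
def alw1 (c a : ℕ) : Bool := a == a0 c || a == b0 c || (c == 88 && (a == 54 || a == 55))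

/-- twice the part of the character of degree 196883 which is not faithful -/
noncomputable def sB (c : ℕ) : ℤ := 2 * (1 + rw cols 1 c + rw cols 2 c)

/-- the odd primes -/
def PL : List ℕ := [3, 5, 7, 11, 13, 17, 19, 23, 31, 47]

/-- the conditions on a triple of types -/
noncomputable def cnd (c a b : ℕ) : Bool :=
  decide (rw M.cols 1 a + rw M.cols 1 b = sB c) && M.dat.pwf a 2 == M.dat.pwf b 2 &&
    (datF.ord c % 2 != 0 || alw1 (datF.pwf c 2) (M.dat.pwf a 2)) &&
    allL (fun k => datF.ord c % k != 0 || alw (datF.pwf c k) (M.dat.pwf a k) (M.dat.pwf b k)) PL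

/-- the check of the fusion -/
noncomputable def chkF : Bool :=
  allL (fun c => frc (datF.ord c) fun o =>
    frcL ((List.range 171).filter fun a => M.dat.ord a == o || M.dat.ord a == 2 * o) fun L =>
      allL (fun a => allL (fun b => !cnd c a b || alw c a b) L) L) (List.range 175)

private theorem gd {β : Type} (l : List β) (d : β) (n : ℕ) : l.getD n d = ntd l d n := by
  induction l generalizing n with
  | nil => rfl
  | cons a l ih => cases n with
    | zero => rfl
    | succ n => exact ih n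

private noncomputable def en (z : ℤ) : ℕ := Int.toNat (z % 1000003)

private noncomputable def tst (c a b : ℕ) : Bool :=
  cond (Nat.beq (Nat.mod (Nat.add (en (rw M.cols 1 a)) (en (rw M.cols 1 b))) 1000003) (en (sB c)))
    (!cnd c a b || alw c a b) true

private theorem tst_eq (c a b : ℕ) : (!cnd c a b || alw c a b) = tst c a b := by
  unfold tst
  cases h : Nat.beq (Nat.mod (Nat.add (en (rw M.cols 1 a)) (en (rw M.cols 1 b))) 1000003) (en (sB c)) with
  | true => rfl
  | false =>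
    have h1 : decide (rw M.cols 1 a + rw M.cols 1 b = sB c) = false := by
      refine decide_eq_false fun e => Nat.ne_of_beq_eq_false h ?_
      show (en (rw M.cols 1 a) + en (rw M.cols 1 b)) % 1000003 = en (sB c)
      rw [← e]
      generalize rw M.cols 1 a = x
      generalize rw M.cols 1 b = y
      unfold en
      (solve | lia | omega)
    delta cnd
    rw [h1]
    rfl

private theorem bq (a b : ℕ) : (a == b) = Nat.beq a b := by
  cases h : Nat.beq a b with
  | true => exact beq_iff_eq.2 (Nat.eq_of_beq_eq_true h)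
  | false => exact beq_false_of_ne (Nat.ne_of_beq_eq_false h)

private noncomputable def flt (f : ℕ → Bool) (l : List ℕ) : List ℕ :=
  List.rec [] (fun a _ ih => cond (f a) (a :: ih) ih) l

private theorem flt_eq (f : ℕ → Bool) (l : List ℕ) : l.filter f = flt f l := by
  induction l with
  | nil => rfl
  | cons a l ih =>
    show _ = cond (f a) (a :: flt f l) (flt f l)
    rw [List.filter_cons, ih]
    cases f a <;> rfl

private noncomputable def _root_.Cfsg.Agent.LsF.f8ff930_0 : {f // @Cfsg.Agent.TAB.Eng.allL = f} := ⟨_, by first | (delta Cfsg.Agent.TAB.Eng.allL; rewrite [Cfsg.Agent.LsF.cond_eq]; exact rfl) | exact rfl⟩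
private noncomputable def _root_.Cfsg.Agent.LsF.f8ff930_1 : {f // @Cfsg.Agent.MO.S.B2.flt = f} := ⟨_, by first | (delta Cfsg.Agent.MO.S.B2.flt; rewrite [Cfsg.Agent.LsF.cond_eq]; exact rfl) | exact rfl⟩
private noncomputable def _root_.Cfsg.Agent.LsF.f8ff930_2 : {f // @Cfsg.Agent.MO.S.B2.en = f} := ⟨_, by first | (delta Cfsg.Agent.MO.S.B2.en; rewrite [Cfsg.Agent.LsF.imod_pat, Cfsg.Agent.LsF.toNat_eq]; exact rfl) | exact rfl⟩
private noncomputable def _root_.Cfsg.Agent.LsF.f8ff930_3 : {f // @Cfsg.Agent.MO.S.B2.sB = f} := ⟨_, by first | (delta Cfsg.Agent.MO.S.B2.sB; rewrite [Cfsg.Agent.LsF.iadd_pat, Cfsg.Agent.LsF.imul_pat]; exact rfl) | exact rfl⟩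
private noncomputable def _root_.Cfsg.Agent.LsF.f8ff930_4 : {f // @Cfsg.Agent.TAB.Eng.look = f} := ⟨_, by first | (delta Cfsg.Agent.TAB.Eng.look List.brecOn List.brecOn.go Cfsg.Agent.TAB.Eng.look._f; rewrite [Cfsg.Agent.LsF.instDecEq_eq, Cfsg.Agent.LsF.ite_eq]; (try delta Cfsg.Agent.TAB.Eng.look.match_1); (try delta List.casesOn); first | dsimp -zeta only | exact rfl) | exact rfl⟩
theorem chk_fus : chkF = true := by
  delta chkF
  simp only [tst_eq]
  delta tst cnd alw alw1 a0 b0 Dat.pwf Dat.pw Dat.ord bne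
  simp only [gd, bq, flt_eq]
  ((try (rewrite [Cfsg.Agent.LsF.f8ff930_0.2, Cfsg.Agent.LsF.f8ff930_1.2, Cfsg.Agent.LsF.f8ff930_2.2, Cfsg.Agent.LsF.f8ff930_3.2, Cfsg.Agent.LsF.f8ff930_4.2, Cfsg.Agent.LsF.nmul_pat, Cfsg.Agent.LsF.nmod_pat, Cfsg.Agent.LsF.iadd_pat, Cfsg.Agent.LsF.and_eq, Cfsg.Agent.LsF.or_eq, Cfsg.Agent.LsF.not_eq, Cfsg.Agent.LsF.cond_eq, Cfsg.Agent.LsF.range_eq, Cfsg.Agent.LsF.instIDecEq_eq, Cfsg.Agent.LsF.decide_eq])); decide +kernel)

theorem chk_47 : ∀ a < 171, M.dat.ord a = 47 ∨ M.dat.ord a = 2 * 47 → rw M.cols 1 a = 0 := by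
  delta Dat.ord
  simp only [gd]
  decide +kernel

theorem chk_r0 : ∀ c < 175, rw cols 0 c = 1 := by decide +kernel

theorem chk_g : ∀ c < 175, 2 * nth g1L c = rw M.cols 1 (a0 c) - rw M.cols 1 (b0 c) ∧
    2 * nth g2L c = rw M.cols 2 (a0 c) - rw M.cols 2 (b0 c) := by
  delta a0 b0
  simp only [gd]
  decide +kernel

theorem chk_z : ∀ c < 175, a0 c = b0 c → ntd C [] c = [] := by
  delta a0 b0
  simp only [gd]
  decide +kernel

private noncomputable def _root_.Cfsg.Agent.LsF.f8ff930_5 : {f // @Cfsg.Agent.TAB.Eng.sqs = f} := ⟨_, by first | (delta Cfsg.Agent.TAB.Eng.sqs; rewrite [Cfsg.Agent.LsF.iadd_eq, Cfsg.Agent.LsF.imul_eq]; exact rfl) | exact rfl⟩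
private noncomputable def _root_.Cfsg.Agent.LsF.f8ff930_6 : {f // @Cfsg.Agent.TAB.Eng.qsum = f} := ⟨_, by first | (delta Cfsg.Agent.TAB.Eng.qsum; rewrite [Cfsg.Agent.LsF.f8ff930_5.2, Cfsg.Agent.LsF.iadd_eq, Cfsg.Agent.LsF.imul_eq]; exact rfl) | exact rfl⟩
private noncomputable def _root_.Cfsg.Agent.LsF.f8ff930_7 : {f // @Cfsg.Agent.TAB.Eng.hor = f} := ⟨_, by first | (delta Cfsg.Agent.TAB.Eng.hor; rewrite [Cfsg.Agent.LsF.iadd_eq, Cfsg.Agent.LsF.imul_eq]; exact rfl) | exact rfl⟩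
private noncomputable def _root_.Cfsg.Agent.LsF.f8ff930_8 : {f // @Cfsg.Agent.TAB.Eng.gRow = f} := ⟨_, by first | (delta Cfsg.Agent.TAB.Eng.gRow; rewrite [Cfsg.Agent.LsF.and_eq, Cfsg.Agent.LsF.not_eq, Cfsg.Agent.LsF.cond_eq]; exact rfl) | exact rfl⟩
private noncomputable def _root_.Cfsg.Agent.LsF.f8ff930_9 : {f // @Cfsg.Agent.TAB.Eng.cmpG = f} := ⟨_, by first | (delta Cfsg.Agent.TAB.Eng.cmpG; rewrite [Cfsg.Agent.LsF.f8ff930_7.2, Cfsg.Agent.LsF.f8ff930_8.2, Cfsg.Agent.LsF.cond_eq, Cfsg.Agent.LsF.imul_eq, Cfsg.Agent.LsF.instIDecEq_eq, Cfsg.Agent.LsF.decide_eq]; exact rfl) | exact rfl⟩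
private noncomputable def _root_.Cfsg.Agent.LsF.f8ff930_10 : {f // @Cfsg.Agent.TAB.Eng.axz = f} := ⟨_, by first | (delta Cfsg.Agent.TAB.Eng.axz; rewrite [Cfsg.Agent.LsF.iadd_eq, Cfsg.Agent.LsF.imul_eq]; exact rfl) | exact rfl⟩
private noncomputable def _root_.Cfsg.Agent.LsF.f8ff930_11 : {f // @Cfsg.Agent.TAB.Eng.accV = f} := ⟨_, by first | (delta Cfsg.Agent.TAB.Eng.accV; rewrite [Cfsg.Agent.LsF.f8ff930_7.2, Cfsg.Agent.LsF.f8ff930_10.2, Cfsg.Agent.LsF.imul_eq]; exact rfl) | exact rfl⟩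
private noncomputable def _root_.Cfsg.Agent.LsF.f8ff930_12 : {f // @Cfsg.Agent.TAB.Eng.chkG = f} := ⟨_, by first | (delta Cfsg.Agent.TAB.Eng.chkG; rewrite [Cfsg.Agent.LsF.f8ff930_0.2, Cfsg.Agent.LsF.f8ff930_6.2, Cfsg.Agent.LsF.f8ff930_9.2, Cfsg.Agent.LsF.f8ff930_11.2, Cfsg.Agent.LsF.iadd_pat, Cfsg.Agent.LsF.imul_pat, Cfsg.Agent.LsF.icast_pat, Cfsg.Agent.LsF.and_eq, Cfsg.Agent.LsF.map_eq, Cfsg.Agent.LsF.idecLt_eq, Cfsg.Agent.LsF.length_eq, Cfsg.Agent.LsF.decide_eq]; exact rfl) | exact rfl⟩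
theorem chk_gram : chkG datF C ms 2 (3 ^ 77) = true := by ((try (rewrite [Cfsg.Agent.LsF.f8ff930_12.2, Cfsg.Agent.LsF.npow_pat])); decide +kernel)

/-- the check of the combinations -/
noncomputable def chkC : Bool :=
  allL (fun c => frcLZ (ntd cols [] c) fun v => frcZ (nth g1L c) fun x => frcZ (nth g2L c) fun y =>
    cond (Nat.beq (a0 c) (b0 c)) (decide (x = 0) && decide (y = 0))
      (decide (ntd C [] c = co.map fun p => x * dot v p.1 + y * dot v p.2))) (List.range 175)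

private noncomputable def dr (v : List ℤ) (n : ℕ) : List ℤ :=
  Nat.rec v (fun _ ih => List.rec [] (fun _ t _ => t) ih) n

private noncomputable def hd (v : List ℤ) : ℤ := List.rec 0 (fun a _ _ => a) v

private theorem dr_cons (a : ℤ) (v : List ℤ) (n : ℕ) : dr (a :: v) (n + 1) = dr v n := by
  induction n with
  | zero => rfl
  | succ n ih => exact congrArg (fun l : List ℤ => (List.rec [] (fun _ t _ => t) l : List ℤ)) ih

private theorem dr_nil (n : ℕ) : dr [] n = [] := by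
  induction n with
  | zero => rfl
  | succ n ih => exact congrArg (fun l : List ℤ => (List.rec [] (fun _ t _ => t) l : List ℤ)) ih

private theorem hd_dr (v : List ℤ) (n : ℕ) : hd (dr v n) = nth v n := by
  induction v generalizing n with
  | nil => rw [dr_nil]; rfl
  | cons a v ih => cases n with
    | zero => rfl
    | succ n => rw [dr_cons]; exact ih n

private noncomputable def dq (v : List ℤ) (c : List (ℤ × ℕ)) : ℕ → ℕ → ℤ :=
  List.rec (fun P N => Int.subNatNat P N) (fun p _ ih P N => Nat.rec 0 (fun n _ =>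
    Int.rec (fun b => Int.rec (fun a => ih (Nat.add P (Nat.mul a b)) N)
        (fun a => ih P (Nat.add N (Nat.mul (Nat.succ a) b))) p.1)
      (fun b => Int.rec (fun a => ih P (Nat.add N (Nat.mul a (Nat.succ b))))
        (fun a => ih (Nat.add P (Nat.mul (Nat.succ a) (Nat.succ b))) N) p.1) (hd (dr v n))) (Nat.succ p.2)) c

private theorem dq_eq (v : List ℤ) (c : List (ℤ × ℕ)) (P N : ℕ) : dq v c P N = P - N + dot v c := by
  induction c generalizing P N with
  | nil => exact (Int.subNatNat_eq_coe).trans (add_zero _).symm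
  | cons p c ih =>
    obtain ⟨a, n⟩ := p
    rw [dot_cons]
    show Int.rec (motive := fun _ => ℤ) (fun b => Int.rec (fun a => dq v c (Nat.add P (Nat.mul a b)) N)
        (fun a => dq v c P (Nat.add N (Nat.mul (Nat.succ a) b))) a)
      (fun b => Int.rec (fun a => dq v c P (Nat.add N (Nat.mul a (Nat.succ b))))
        (fun a => dq v c (Nat.add P (Nat.mul (Nat.succ a) (Nat.succ b))) N) a) (hd (dr v n)) = P - N + (a * nth v n + dot v c)
    rw [hd_dr]
    cases nth v n <;> cases a <;> refine (ih _ _).trans ?_ <;>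
      simp only [Nat.add_eq, Nat.mul_eq, Nat.succ_eq_add_one, Int.ofNat_eq_natCast, Int.negSucc_eq] <;> push_cast <;> ring

private theorem dot_eq : dot = fun v c => dq v c 0 0 := by
  funext v c
  rw [dq_eq]
  simp only [Nat.cast_zero, sub_zero, zero_add]

private noncomputable def _root_.Cfsg.Agent.LsF.f8ff930_13 : {f // @Int.subNatNat = f} := ⟨_, by first | (delta Int.subNatNat; rewrite [Cfsg.Agent.LsF.nsub_pat]; (try delta Int.negOfNat.match_1); (try delta Nat.casesOn); exact rfl) | exact rfl⟩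
private noncomputable def _root_.Cfsg.Agent.LsF.f8ff930_14 : {f // @Cfsg.Agent.MO.S.B2.dq = f} := ⟨_, by first | (delta Cfsg.Agent.MO.S.B2.dq; rewrite [Cfsg.Agent.LsF.f8ff930_13.2]; exact rfl) | exact rfl⟩
theorem chk_co : chkC = true := by
  delta chkC a0 b0
  simp only [gd, frcLZ_eq, dot_eq]
  ((try (rewrite [Cfsg.Agent.LsF.f8ff930_0.2, Cfsg.Agent.LsF.f8ff930_14.2, Cfsg.Agent.LsF.iadd_pat, Cfsg.Agent.LsF.imul_pat, Cfsg.Agent.LsF.and_eq, Cfsg.Agent.LsF.cond_eq, Cfsg.Agent.LsF.map_eq, Cfsg.Agent.LsF.range_eq, Cfsg.Agent.LsF.instIDecEq_eq, Cfsg.Agent.LsF.dListEq_eq, Cfsg.Agent.LsF.decide_eq])); decide +kernel)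

theorem chk_lt : ∀ p ∈ co, (∀ q ∈ p.1, q.2 < 175) ∧ ∀ q ∈ p.2, q.2 < 175 := by decide +kernel

theorem chk_n1 : ip datF g1L g1L = datF.N ∧ 16 * datF.cnt 88 < datF.N ∧ nth g1L 88 = 0 := by decide +kernel

theorem chk_irr : ip M.dat (rwL M.cols 1) (rwL M.cols 1) = M.dat.N ∧ ip datF (rwL cols 0) (rwL cols 0) = datF.N ∧
    ip datF (rwL cols 1) (rwL cols 1) = datF.N ∧ ip datF (rwL cols 2) (rwL cols 2) = datF.N := by decide +kernel

theorem chk_degs : ∀ j < degs.length, degs.getD j 0 ≤ 100627 → j < 3 := by (refine of_decide_eq_true ?_; (try (rewrite [Cfsg.Agent.LsF.decLe_eq, Cfsg.Agent.LsF.decLt_eq, Cfsg.Agent.LsF.getD_eq, Cfsg.Agent.LsF.dBallLT_eq, Cfsg.Agent.LsF.dAllP_eq, Cfsg.Agent.LsF.length_eq, Cfsg.Agent.LsF.decide_eq])); decide +kernel)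

theorem chk_dg : ∀ j < 51, sF ms j = 0 ∧ nth dg j * mF ms j = rw C j 0 := by decide +kernel

theorem chk_sum : ∑ j ∈ Finset.range 51, nth dg j * rw C j 0 = datF.N := by decide +kernel

theorem chk_sep : ∀ j < 51, ∀ i < j, mF ms j = 2 → mF ms i = 2 →
    ¬ rw C j 0 + rw C i 0 ∣ 4 * datF.N ∨ ¬ rw C j 0 - rw C i 0 ∣ 4 * datF.N := by (refine of_decide_eq_true ?_; (try (rewrite [Cfsg.Agent.LsF.iadd_pat, Cfsg.Agent.LsF.imul_pat, Cfsg.Agent.LsF.isub_pat, Cfsg.Agent.LsF.icast_pat, Cfsg.Agent.LsF.instDecEq_eq, Cfsg.Agent.LsF.dOr_eq, Cfsg.Agent.LsF.dNot_eq, Cfsg.Agent.LsF.dBallLT_eq, Cfsg.Agent.LsF.dAllP_eq, Cfsg.Agent.LsF.idDvd_eq, Cfsg.Agent.LsF.decide_eq])); decide +kernel)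

end Cfsg.Agent.MO.S.B2
end

-- part: MO/S/B2/Fus
section
/-!
# The fusion of `2.B` into the Monster (helper39)

`Fr` : a double cover `L` of a group with the table of the Baby Monster inside a group with the table of the Monster, the
central involution has the type 2A.  `Fr.fus` : the types of the two preimages of an element.
-/

set_option autoImplicit false
set_option maxRecDepth 100000

namespace Cfsg.Agent.MO.S.B2

open Cfsg Finset Subgroup Cfsg.Agent.TAB Cfsg.Agent.TAB.Eng Cfsg.Agent.TAB.Use Cfsg.Agent.TAB.B.Fin Cfsg.Agent.Characters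
open Cfsg.Agent.Characters.Core Cfsg.Agent.Characters.Brauer Cfsg.Agent.H447.CTab
open scoped ComplexConjugate

variable {L S G : Type} [Group L] [Group S] [Group G]

/-- the frame -/
structure Fr (TS : TD S datF) (TG : TD G M.dat) (φ : L →* S) (ι : L →* G) (z : L) : Prop where
  mS : TS.Mass
  vS : ∀ i < 175, Virt TS (rw cols i)
  dS : DegList S degs
  mG : TG.Mass
  vG : ∀ i < 171, Virt TG (rw M.cols i)
  surj : Function.Surjective φ
  ker : ∀ x, φ x = 1 ↔ x = 1 ∨ x = z
  ne : z ≠ 1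
  inj : Function.Injective ι
  tz : TG.ty (ι z) = 1

theorem chk_small : (∀ j < 3, rw cols j 0 = (degs.getD j 0 : ℕ) ∧ degs.getD j 0 ≤ 100627 ∧
    ∀ i < 3, degs.getD i 0 = degs.getD j 0 → i = j) ∧ rw cols 1 0 = 4371 ∧ rw cols 2 0 = 96255 ∧ rw cols 1 162 = 0 ∧
    rw cols 2 162 = -1 ∧ rw M.cols 1 0 = 196883 ∧ rw M.cols 1 1 = 4371 ∧ datF.ord 162 = 47 ∧ 0 < datF.cnt 162 ∧
    rw M.cols 1 54 - rw M.cols 1 55 = -8 ∧ a0 0 = 0 := by decide +kernel

namespace Fr

variable {TS : TD S datF} {TG : TD G M.dat} {φ : L →* S} {ι : L →* G} {z : L} (F : Fr TS TG φ ι z)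
include F

theorem phz : φ z = 1 := (F.ker z).2 (.inr rfl)

theorem zz : z * z = 1 :=
  ((F.ker _).1 (by rw [map_mul, F.phz, one_mul])).resolve_right fun h => F.ne (mul_eq_left.1 h)

theorem cen : z ∈ center L := mem_center_iff.2 fun g => by
  have h := ((F.ker (g * z * g⁻¹)).1 (by rw [map_mul, map_mul, F.phz, mul_one, ← map_mul, mul_inv_cancel, map_one])).resolve_left
    fun h => F.ne (by rwa [mul_inv_eq_one, mul_eq_left] at h)
  exact mul_inv_eq_iff_eq_mul.1 h

theorem phm (x : L) : φ (z * x) = φ x := by rw [map_mul, F.phz, one_mul]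

theorem zzm (x : L) : z * (z * x) = x := by rw [← mul_assoc, F.zz, one_mul]

theorem card_ker : Nat.card φ.ker = 2 := by
  rw [Nat.card_eq_two_iff]
  refine ⟨⟨1, map_one φ⟩, ⟨z, F.phz⟩, fun h => F.ne (congrArg Subtype.val h).symm, ?_⟩
  rw [Set.eq_univ_iff_forall]
  rintro ⟨x, hx⟩
  rcases (F.ker x).1 hx with rfl | rfl
  · exact Or.inl rfl
  · exact Or.inr rfl

theorem pow_odd (x : L) {k : ℕ} (hk : k % 2 = 1) : (z * x) ^ k = z * x ^ k := by
  have h : Commute z x := (mem_center_iff.1 F.cen x).symm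
  rw [h.mul_pow, ← Nat.div_add_mod k 2, hk, pow_succ, pow_mul, pow_two, F.zz, one_pow, one_mul]

theorem pow_two' (x : L) : (z * x) ^ 2 = x ^ 2 := by
  have h : Commute z x := (mem_center_iff.1 F.cen x).symm
  rw [h.mul_pow, pow_two z, F.zz, one_mul]

variable [Finite L]

theorem ord_cases (x : L) : M.dat.ord (TG.ty (ι x)) = datF.ord (TS.ty (φ x)) ∨
    M.dat.ord (TG.ty (ι x)) = 2 * datF.ord (TS.ty (φ x)) := by
  rw [← TG.ord, ← TS.ord, orderOf_injective ι F.inj]
  obtain ⟨t, ht⟩ := orderOf_map_dvd φ x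
  have h1 : orderOf x ∣ orderOf (φ x) * 2 := by
    rw [orderOf_dvd_iff_pow_eq_one, pow_mul]
    rcases (F.ker (x ^ orderOf (φ x))).1 (by rw [map_pow, pow_orderOf_eq_one]) with h | h
    · rw [h, one_pow]
    · rw [h, pow_two, F.zz]
  have h2 : orderOf (φ x) ≠ 0 := fun h => (orderOf_pos x).ne' (by rw [ht, h, zero_mul])
  rw [ht] at h1 ⊢
  rcases (Nat.dvd_prime Nat.prime_two).1 ((Nat.mul_dvd_mul_iff_left (Nat.pos_of_ne_zero h2)).1 h1) with rfl | rfl
  · exact .inl (mul_one _)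
  · exact .inr (mul_comm _ _)

theorem finS : Finite S := Finite.of_surjective φ F.surj

omit [Finite L] in
theorem finG : Finite G := Nat.finite_of_card_ne_zero (by rw [F.mG.1]; decide +kernel)

theorem tS : TS.ty 1 = 0 :=
  have := F.finS
  (TD.ty_eq_zero F.mS (by decide) (by decide +kernel) (by decide +kernel) 1).2 rfl

omit [Finite L] in
theorem tG : TG.ty 1 = 0 :=
  have := F.finG
  (TD.ty_eq_zero F.mG (by decide) (by decide +kernel) (by decide +kernel) 1).2 rfl

theorem irrS {j : ℕ} (hj : j < 3) : IsIrrCharacter S fun y => (rw cols j (TS.ty y) : ℂ) := by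
  have := F.finS
  have h := Virt.irr F.mS okLen.2.1 (v := rwL cols j) (nth_rwL cols j ▸ F.vS j (by omega)) (by
    interval_cases j
    exacts [chk_irr.2.1, chk_irr.2.2.1, chk_irr.2.2.2]) (by
    rw [F.tS, nth_rwL]
    revert j
    decide +kernel)
  unfold fn at h
  rwa [nth_rwL] at h

omit [Finite L] in
theorem irrG : IsIrrCharacter G fun y => (rw M.cols 1 (TG.ty y) : ℂ) := by
  have := F.finG
  have h := Virt.irr F.mG M.okLen.2.1 (v := rwL M.cols 1) (nth_rwL M.cols 1 ▸ F.vG 1 (by omega)) chk_irr.1 (by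
    rw [F.tG, nth_rwL, chk_small.2.2.2.2.2.1]
    decide)
  unfold fn at h
  rwa [nth_rwL] at h

theorem small {η : S → ℂ} (hη : IsIrrCharacter S η) {d : ℕ} (h1 : η 1 = d) (h2 : d ≤ 100627) :
    ∃ j < 3, η = fun y => (rw cols j (TS.ty y) : ℂ) := by
  obtain ⟨χ, hE⟩ := F.dS
  obtain ⟨j, hj, rfl⟩ := hE.all η hη
  have h3 : degs.getD j 0 = d := by exact_mod_cast (hE.deg j hj).symm.trans h1
  have h4 := chk_degs j hj (h3 ▸ h2)
  obtain ⟨i, hi, h5⟩ := hE.all _ (F.irrS h4)
  have h6 := (congrFun h5 1).trans (hE.deg i hi)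
  rw [F.tS, (chk_small.1 j h4).1, Int.cast_natCast, Nat.cast_inj] at h6
  have h7 := (chk_small.1 j h4).2.2 i (chk_degs i hi (h6 ▸ (chk_small.1 j h4).2.1)) h6.symm
  exact ⟨j, h4, h7 ▸ h5.symm⟩

theorem zero47 {x : L} (h : TS.ty (φ x) = 162) : rw M.cols 1 (TG.ty (ι x)) = 0 := by
  have h1 := F.ord_cases x
  rw [h, chk_small.2.2.2.2.2.2.2.1] at h1
  exact chk_47 _ (TG.lt _) h1

/-- the part of the character of degree 196883 which is not faithful -/
theorem sum_eq (x : L) : rw M.cols 1 (TG.ty (ι x)) + rw M.cols 1 (TG.ty (ι (z * x))) = sB (TS.ty (φ x)) := by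
  classical
  have := F.finS
  have := Fintype.ofFinite L
  have := finite_irr (G := L)
  have := Fintype.ofFinite (IrrCharacter L)
  obtain ⟨-, c1, c2, c3, c4, c5, c6, -, c8, -⟩ := chk_small
  obtain ⟨m, hm⟩ := exists_nat_comb (isCharacter_comp ι (isIrr_isCharacter F.irrG))
  have h0 : ∀ y, ((rw M.cols 1 (TG.ty (ι y)) + rw M.cols 1 (TG.ty (ι (z * y))) : ℤ) : ℂ) =
      ∑ χ : IrrCharacter L, (m χ : ℂ) * ((χ : L → ℂ) y + (χ : L → ℂ) (z * y)) := fun y => by
    have h1 := congrFun hm y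
    have h2 := congrFun hm (z * y)
    simp only [Function.comp_apply, Finset.sum_apply, nsmul_eq_mul, Pi.mul_apply, Pi.natCast_apply] at h1 h2
    simp only [Int.cast_add, h1, h2, mul_add, Finset.sum_add_distrib]
  have h1 : ∀ χ : IrrCharacter L, ∃ s : ℕ, (χ : L → ℂ) 1 + (χ : L → ℂ) (z * 1) = s := fun χ => by
    obtain ⟨d, -, hd, -⟩ := degree_dvd χ
    rcases central_pm F.cen F.zz χ.2 with h | h
    · exact ⟨d + d, by rw [h, hd, one_mul, Nat.cast_add]⟩
    · exact ⟨0, by rw [h, neg_one_mul, add_neg_cancel, Nat.cast_zero]⟩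
  choose s hs using h1
  have h2 : ∑ χ, m χ * s χ = 201254 := by
    have h3 := h0 1
    simp only [hs] at h3
    rw [mul_one, map_one, F.tG, F.tz, c5, c6] at h3
    exact_mod_cast h3.symm
  have h3 : ∃ n0 n1 n2 : ℕ, ∀ y, (∑ χ : IrrCharacter L, fun y => (m χ : ℂ) * ((χ : L → ℂ) y + (χ : L → ℂ) (z * y))) y =
      ((2 * (n0 + n1 * rw cols 1 (TS.ty (φ y)) + n2 * rw cols 2 (TS.ty (φ y))) : ℤ) : ℂ) := by
    refine Finset.sum_induction _ (fun f : L → ℂ => ∃ n0 n1 n2 : ℕ, ∀ y, f y =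
      ((2 * (n0 + n1 * rw cols 1 (TS.ty (φ y)) + n2 * rw cols 2 (TS.ty (φ y))) : ℤ) : ℂ)) ?_ ⟨0, 0, 0, by simp⟩ ?_
    · rintro f g ⟨a, b, c, h4⟩ ⟨a', b', c', h5⟩
      exact ⟨a + a', b + b', c + c', fun y => by rw [Pi.add_apply, h4, h5]; push_cast; ring⟩
    · intro χ _
      rcases central_pm F.cen F.zz χ.2 with h | h
      swap
      · exact ⟨0, 0, 0, fun y => by simp [h]⟩
      rcases Nat.eq_zero_or_pos (m χ) with h4 | h4
      · exact ⟨0, 0, 0, fun y => by simp [h4]⟩
      obtain ⟨d, -, hd, -⟩ := degree_dvd χ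
      have h5 : s χ = d + d := by
        have h6 := hs χ
        rw [h, hd, one_mul] at h6
        exact_mod_cast h6.symm
      have h6 : m χ * s χ ≤ 201254 :=
        h2 ▸ Finset.single_le_sum (f := fun χ => m χ * s χ) (fun _ _ => Nat.zero_le _) (Finset.mem_univ χ)
      have h7 := (Nat.le_mul_of_pos_left _ h4).trans h6
      obtain ⟨η, hη, h8⟩ := ODD.Red.exists_quot φ F.surj χ.2 fun w hw => by
        rcases (F.ker w).1 hw with rfl | rfl
        · rfl
        · rw [← mul_one w, h, one_mul]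
      obtain ⟨j, hj, rfl⟩ := F.small hη (d := d) (by rw [← map_one φ, h8, hd]) (by omega)
      simp only [h, one_mul, ← h8]
      interval_cases j
      · exact ⟨m χ, 0, 0, fun y => by rw [chk_r0 _ (TS.lt _)]; push_cast; ring⟩
      · exact ⟨0, m χ, 0, fun y => by push_cast; ring⟩
      · exact ⟨0, 0, m χ, fun y => by push_cast; ring⟩
  obtain ⟨n0, n1, n2, h4⟩ := h3
  have h5 : ∀ y, rw M.cols 1 (TG.ty (ι y)) + rw M.cols 1 (TG.ty (ι (z * y))) =
      2 * (n0 + n1 * rw cols 1 (TS.ty (φ y)) + n2 * rw cols 2 (TS.ty (φ y))) := fun y =>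
    Int.cast_injective (α := ℂ) (by rw [h0, ← h4, Finset.sum_apply])
  have h6 := h5 1
  rw [mul_one, map_one, map_one, F.tG, F.tz, F.tS, c1, c2, c5, c6] at h6
  obtain ⟨y, hy⟩ : ∃ y : S, TS.ty y = 162 := by
    have h7 := c8
    rw [← F.mS.2 162 (by decide)] at h7
    obtain ⟨⟨g, hg⟩⟩ := (Nat.card_pos_iff.1 h7).1
    exact ⟨g, hg⟩
  obtain ⟨w, rfl⟩ := F.surj y
  have h7 := h5 w
  rw [F.zero47 hy, F.zero47 (by rw [F.phm, hy]), hy, c3, c4] at h7
  have h8 : n0 = 1 ∧ n1 = 1 ∧ n2 = 1 := by (clear * - h6 h7; solve | lia | omega)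
  rw [h5, h8.1, h8.2.1, h8.2.2, sB]
  push_cast
  ring

theorem alw_all (x : L) : alw (TS.ty (φ x)) (TG.ty (ι x)) (TG.ty (ι (z * x))) = true := by
  have := F.finS
  induction h : orderOf (φ x) using Nat.strong_induction_on generalizing x with
  | _ n ih =>
    have key : ∀ k, 1 < k → datF.ord (TS.ty (φ x)) % k = 0 →
        alw (datF.pwf (TS.ty (φ x)) k) (M.dat.pwf (TG.ty (ι x)) k) (TG.ty (ι (z * x ^ k))) = true := fun k h1 h2 => by
      rw [← TS.pow, ← TG.pow, ← map_pow, ← map_pow]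
      refine ih _ ?_ _ rfl
      rw [← TS.ord] at h2
      rw [map_pow, orderOf_pow, Nat.gcd_eq_right (Nat.dvd_of_mod_eq_zero h2), ← h]
      exact Nat.div_lt_self (orderOf_pos _) h1
    have h1 := allL_spec chk_fus _ (List.mem_range.2 (TS.lt (φ x)))
    rw [frc_eq, frcL_eq] at h1
    have h2 : ∀ y, φ y = φ x → TG.ty (ι y) ∈ (List.range 171).filter fun a =>
        M.dat.ord a == datF.ord (TS.ty (φ x)) || M.dat.ord a == 2 * datF.ord (TS.ty (φ x)) := fun y hy => by
      rw [List.mem_filter, Bool.or_eq_true, beq_iff_eq, beq_iff_eq, ← hy]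
      exact ⟨List.mem_range.2 (TG.lt _), F.ord_cases y⟩
    have h3 := allL_spec (allL_spec h1 _ (h2 x rfl)) _ (h2 _ (F.phm x))
    rw [Bool.or_eq_true, Bool.not_eq_true'] at h3
    refine h3.resolve_left ?_
    rw [Bool.not_eq_false, cnd]
    simp only [Bool.and_eq_true, Bool.or_eq_true, decide_eq_true_eq, beq_iff_eq, bne_iff_ne]
    refine ⟨⟨⟨F.sum_eq x, by rw [← TG.pow, ← TG.pow, ← map_pow, ← map_pow, F.pow_two']⟩, ?_⟩, ?_⟩
    · rw [← imp_iff_not_or]
      intro h4
      have h5 := key 2 one_lt_two h4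
      simp only [alw, alw1, Bool.and_eq_true, Bool.or_eq_true, beq_iff_eq] at h5 ⊢
      itauto
    · have h4 : ∀ l : List ℕ, (∀ k ∈ l, 1 < k ∧ k % 2 = 1) → allL (fun k => datF.ord (TS.ty (φ x)) % k != 0 ||
          alw (datF.pwf (TS.ty (φ x)) k) (M.dat.pwf (TG.ty (ι x)) k) (M.dat.pwf (TG.ty (ι (z * x))) k)) l = true := by
        intro l hl
        induction l with
        | nil => rfl
        | cons k l ih =>
          have h5 : (datF.ord (TS.ty (φ x)) % k != 0 || alw (datF.pwf (TS.ty (φ x)) k) (M.dat.pwf (TG.ty (ι x)) k)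
              (M.dat.pwf (TG.ty (ι (z * x))) k)) = true := by
            rw [Bool.or_eq_true, bne_iff_ne, ← imp_iff_not_or]
            intro h6
            rw [← TG.pow (ι (z * x)), ← map_pow, F.pow_odd x (hl k List.mem_cons_self).2]
            exact key k (hl k List.mem_cons_self).1 h6
          exact (congrArg (cond · _ false) h5).trans (ih fun k hk => hl k (List.mem_cons_of_mem _ hk))
      exact h4 PL (by decide)

/-- **the fusion** -/
theorem fus (x : L) : (TG.ty (ι x) = a0 (TS.ty (φ x)) ∧ TG.ty (ι (z * x)) = b0 (TS.ty (φ x))) ∨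
    (TG.ty (ι x) = b0 (TS.ty (φ x)) ∧ TG.ty (ι (z * x)) = a0 (TS.ty (φ x))) := by
  classical
  have := F.finS
  have := Fintype.ofFinite L
  have := Fintype.ofFinite S
  have := finite_irr (G := L)
  have := Fintype.ofFinite (IrrCharacter L)
  let P : L → Prop := fun x => (TG.ty (ι x) = a0 (TS.ty (φ x)) ∧ TG.ty (ι (z * x)) = b0 (TS.ty (φ x))) ∨
    (TG.ty (ι x) = b0 (TS.ty (φ x)) ∧ TG.ty (ι (z * x)) = a0 (TS.ty (φ x)))
  have h1 : ∀ x, ∃ v : ℤ, 2 * v = rw M.cols 1 (TG.ty (ι x)) - rw M.cols 1 (TG.ty (ι (z * x))) ∧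
      v * v = nth g1L (TS.ty (φ x)) * nth g1L (TS.ty (φ x)) + (if P x then 0 else 16) ∧ (¬ P x → TS.ty (φ x) = 88) := fun x => by
    by_cases h : P x
    · rw [if_pos h, add_zero]
      have h2 := (chk_g _ (TS.lt (φ x))).1
      rcases id h with ⟨h3, h4⟩ | ⟨h3, h4⟩
      · exact ⟨_, by rw [h3, h4, h2], rfl, fun h5 => absurd h h5⟩
      · exact ⟨-nth g1L (TS.ty (φ x)), by rw [h3, h4, mul_neg, h2, neg_sub], neg_mul_neg _ _, fun h5 => absurd h h5⟩
    · have h2 := F.alw_all x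
      simp only [alw, Bool.and_eq_true, Bool.or_eq_true, beq_iff_eq] at h2
      obtain ⟨h3, h4⟩ := h2.resolve_left h
      have h5 := chk_small.2.2.2.2.2.2.2.2.2.1
      rw [if_neg h, h3, chk_n1.2.2]
      rcases h4 with ⟨h6, h7⟩ | ⟨h6, h7⟩
      · exact ⟨-4, by rw [h6, h7, h5]; rfl, rfl, fun _ => rfl⟩
      · exact ⟨4, by rw [h6, h7, ← neg_sub, h5]; rfl, rfl, fun _ => rfl⟩
  choose v hv1 hv2 hv3 using h1
  have h2 : IsGeneralizedCharacter L fun x => (v x : ℂ) :=
    gen_odd F.cen F.zz (H651.isGeneralizedCharacter_comp_hom ι (F.vG 1 (by decide))) fun x => by exact_mod_cast hv1 x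
  have hN : Nat.card L = 2 * datF.N := by rw [card_surj F.surj, F.card_ker, F.mS.1]
  obtain ⟨n, h3⟩ : ∃ n : ℤ, ∑ x, v x * v x = 2 * datF.N * n := by
    have h4 := inner_sum_mu h2 h2
    rw [classInner_def, inv_mul_eq_iff_eq_mul₀ card_ne_zero_complex, hN] at h4
    simp only [map_intCast] at h4
    exact ⟨_, by exact_mod_cast h4⟩
  have h4 : ∑ x, nth g1L (TS.ty (φ x)) * nth g1L (TS.ty (φ x)) = 2 * datF.N := by
    rw [sum_surj F.surj fun y => nth g1L (TS.ty y) * nth g1L (TS.ty y), F.card_ker,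
      sum_mass F.mS fun t => nth g1L t * nth g1L t, ← chk_n1.1, ip, ipL_eq, okLen.2.1, nsmul_eq_mul, Nat.cast_ofNat]
    simp only [nsmul_eq_mul]
    rfl
  have h5 : ∑ x, (if P x then 0 else 16 : ℤ) ≤ 2 * (16 * datF.cnt 88 : ℕ) := by
    refine (Finset.sum_le_sum (g := fun x => if TS.ty (φ x) = 88 then 16 else 0) fun x _ => ?_).trans (le_of_eq ?_)
    · by_cases h : P x
      · rw [if_pos h]
        split_ifs <;> decide
      · rw [if_neg h, if_pos (hv3 x h)]
    · rw [sum_surj F.surj fun y => if TS.ty y = 88 then (16 : ℤ) else 0, F.card_ker,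
        sum_mass F.mS fun t => if t = 88 then (16 : ℤ) else 0]
      simp only [smul_ite, smul_zero, Finset.sum_ite_eq', Finset.mem_range]
      rw [if_pos (by decide), nsmul_eq_mul, nsmul_eq_mul]
      push_cast
      ring
  have h6 : ∀ x ∈ Finset.univ, (0 : ℤ) ≤ if P x then 0 else 16 := fun x _ => by split_ifs <;> decide
  have h7 := Finset.sum_nonneg h6
  have h8 : ((16 * datF.cnt 88 : ℕ) : ℤ) < datF.N := Int.ofNat_lt.2 chk_n1.2.1
  simp only [hv2, Finset.sum_add_distrib, h4] at h3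
  have h9 : n = 1 := by
    have h10 : (0 : ℤ) < datF.N := (Int.natCast_nonneg _).trans_lt h8
    have h11 : 1 ≤ n := by nlinarith only [h7, h8, h3]
    have h12 : n < 2 := by nlinarith only [h5, h8, h3]
    omega
  rw [h9, mul_one, add_eq_left] at h3
  have h10 := (Finset.sum_eq_zero_iff_of_nonneg h6).1 h3 x (Finset.mem_univ x)
  by_contra h
  rw [if_neg h] at h10
  exact absurd h10 (by decide)

end Fr

end Cfsg.Agent.MO.S.B2
end

-- part: MO/S/B2/Row
section
/-!
# The faithful characters of `2.B` from the fusion (helper39)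

`Fr.en` : the enumeration of the faithful irreducible characters; `Fr.kk_eq` : the number of those of `p'`-degree.
-/

set_option autoImplicit false
set_option maxRecDepth 100000

namespace Cfsg.Agent.MO.S.B2

open Cfsg Finset Subgroup Cfsg.Agent.TAB Cfsg.Agent.TAB.Eng Cfsg.Agent.TAB.Use Cfsg.Agent.TAB.B.Fin Cfsg.Agent.Characters
open Cfsg.Agent.Characters.Core Cfsg.Agent.Characters.Brauer Cfsg.Agent.H447.CTab Cfsg.Agent.MO.S.Cov2
open scoped ComplexConjugate

variable {L S G : Type} [Group L] [Group S] [Group G]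

/-- the sign -/
def sgn (TS : TD S datF) (TG : TD G M.dat) (φ : L →* S) (ι : L →* G) (x : L) : ℤ :=
  if TG.ty (ι x) = a0 (TS.ty (φ x)) then 1 else -1

/-- the faithful function with the values `R` -/
noncomputable def ff (TS : TD S datF) (TG : TD G M.dat) (φ : L →* S) (ι : L →* G) (R : ℕ → ℤ) (x : L) : ℂ :=
  ((sgn TS TG φ ι x * R (TS.ty (φ x)) : ℤ) : ℂ)

theorem len_co : co.length = 51 ∧ ms.length = 51 := by decide +kernel

theorem rw_zero {c : ℕ} (hc : c < 175) (h : a0 c = b0 c) (j : ℕ) : rw C j c = 0 := by rw [rw, chk_z c hc h, nth_nil]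

theorem rw_C {j : ℕ} (hj : j < co.length) {c : ℕ} (hc : c < 175) :
    rw C j c = nth g1L c * cmb cols co[j].1 c + nth g2L c * cmb cols co[j].2 c := by
  have h := allL_spec chk_co c (List.mem_range.2 hc)
  rw [frcLZ_eq, frcZ_eq, frcZ_eq] at h
  cases h1 : Nat.beq (a0 c) (b0 c)
  · rw [h1, cond_false, decide_eq_true_eq] at h
    rw [rw, h, nth_eq, List.getD_eq_getElem _ _ (by rwa [List.length_map]), List.getElem_map]
    rfl
  · rw [h1, cond_true, Bool.and_eq_true, decide_eq_true_eq, decide_eq_true_eq] at h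
    rw [h.1, h.2, zero_mul, zero_mul, add_zero, rw_zero hc (Nat.eq_of_beq_eq_true h1)]

/-- the number of the faithful characters of `p'`-degree -/
noncomputable def cnt (p : ℕ) : ℕ :=
  ∑ y ∈ range (51 + 0), if ¬ p ∣ (sdeg 51 (sF ms) (nth dg) y).natAbs then mlt 51 (mF ms) (sF ms) y else 0

theorem cnt_eq : cnt 3 = 27 ∧ cnt 5 = 25 ∧ cnt 7 = 27 := by decide +kernel

namespace Fr

variable {TS : TD S datF} {TG : TD G M.dat} {φ : L →* S} {ι : L →* G} {z : L} (F : Fr TS TG φ ι z) [Fintype L]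
include F

theorem ff_odd {R : ℕ → ℤ} (h : ∀ c < 175, a0 c = b0 c → R c = 0) (x : L) :
    ff TS TG φ ι R (z * x) = -1 * ff TS TG φ ι R x := by
  rw [ff, ff, sgn, sgn, F.phm]
  by_cases h1 : a0 (TS.ty (φ x)) = b0 (TS.ty (φ x))
  · simp [h _ (TS.lt _) h1]
  · rcases F.fus x with ⟨h2, h3⟩ | ⟨h2, h3⟩
    · rw [if_pos h2, h3, if_neg (Ne.symm h1)]
      simp
    · rw [if_pos h3, h2, if_neg (Ne.symm h1)]
      simp

theorem gen_seed {r : ℕ} (hr : r < 171) {R : ℕ → ℤ}
    (h : ∀ c < 175, 2 * R c = rw M.cols r (a0 c) - rw M.cols r (b0 c)) : IsGeneralizedCharacter L (ff TS TG φ ι R) := by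
  refine gen_odd F.cen F.zz (H651.isGeneralizedCharacter_comp_hom ι (F.vG r hr)) fun x => ?_
  have h1 := h _ (TS.lt (φ x))
  have h2 : 2 * (sgn TS TG φ ι x * R (TS.ty (φ x))) = rw M.cols r (TG.ty (ι x)) - rw M.cols r (TG.ty (ι (z * x))) := by
    rw [sgn]
    rcases F.fus x with ⟨h2, h3⟩ | ⟨h2, h3⟩
    · rw [if_pos h2, h2, h3, one_mul, h1]
    · rw [h2, h3]
      split_ifs with h4
      · rw [one_mul, h1, h4]
      · linear_combination -h1
  rw [ff]
  exact_mod_cast h2

theorem gen_row {j : ℕ} (hj : j < 51) : IsGeneralizedCharacter L (ff TS TG φ ι (rw C j)) := by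
  have h1 : j < co.length := len_co.1 ▸ hj
  have h2 := chk_lt _ (List.getElem_mem h1)
  have h3 := isGeneralizedCharacter_add
    (isGeneralizedCharacter_mul (F.gen_seed (by decide) fun c hc => (chk_g c hc).1)
      (H651.isGeneralizedCharacter_comp_hom φ (Virt.cmb fun q hq => F.vS _ (h2.1 q hq))))
    (isGeneralizedCharacter_mul (F.gen_seed (by decide) fun c hc => (chk_g c hc).2)
      (H651.isGeneralizedCharacter_comp_hom φ (Virt.cmb fun q hq => F.vS _ (h2.2 q hq))))
  convert h3 using 1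
  funext x
  simp only [Pi.add_apply, Pi.mul_apply, ff, rw_C h1 (TS.lt _)]
  push_cast
  ring

theorem gram {i j : ℕ} (hi : i < 51) (hj : j < 51) :
    classInner (ff TS TG φ ι (rw C i)) (ff TS TG φ ι (rw C j)) = (gam (mF ms) (sF ms) i j : ℤ) := by
  have := F.finS
  have := Fintype.ofFinite S
  rw [← inner_of_ipF F.mS ((gram_of_chkG okLen chk_gram).2 i (len_co.2 ▸ hi) j (len_co.2 ▸ hj)), ← inner_surj F.surj,
    classInner_def, classInner_def]
  congr 1
  refine Finset.sum_congr rfl fun x _ => ?_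
  rw [ff, ff, map_intCast, map_intCast, sgn]
  split_ifs <;> simp

theorem ff_one (R : ℕ → ℤ) : ff TS TG φ ι R 1 = R 0 := by
  rw [ff, sgn, map_one, map_one, F.tS, F.tG, chk_small.2.2.2.2.2.2.2.2.2.2, if_pos rfl, one_mul]

/-- **the enumeration** -/
theorem en (hZ : φ.ker = center L) {l : L → ℂ} (hl : Fl L l) :
    ∃ ix, En (center L) l 51 0 (mF ms) (sF ms) (nth dg) (fun j => ff TS TG φ ι (rw C j)) ix := by
  have := F.finS
  have := Fintype.ofFinite S
  have h1 := hl.one
  obtain ⟨μ, hμ, h2⟩ := hl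
  have h3 : l z = -1 := by
    have h4 : μ ⟨z, F.cen⟩ * μ ⟨z, F.cen⟩ = 1 := by
      rw [← map_mul, ← map_one μ]
      exact congrArg _ (Subtype.ext F.zz)
    have h5 : l z * l z = 1 := by
      rw [h2 ⟨z, F.cen⟩, ← Units.val_mul, h4, Units.val_one]
    refine (mul_self_eq_one_iff.1 h5).resolve_left fun h6 => F.ne (congrArg Subtype.val (hμ (a₁ := ⟨z, F.cen⟩) (a₂ := 1) ?_))
    rw [map_one, ← Units.val_eq_one, ← h2 ⟨z, F.cen⟩, h6]
  have hN : Nat.card L = 2 * datF.N := by rw [card_surj F.surj, F.card_ker, F.mS.1]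
  have hg : ∀ i < 51, ∀ j < 51, gam (mF ms) (sF ms) i j = if i = j then (mF ms i : ℤ) else 0 := fun i hi j _ => by
    rw [gam, if_neg (c := sF ms i = sF ms j ∧ sF ms i ≠ 0) fun h => h.2 (chk_dg i hi).1]
  refine enum_cov le_rfl μ h2 ⟨fun j hj => (chk_dg j hj).1.le, fun j hj h => absurd (chk_dg j hj).1 h,
    fun _ h => absurd h (Nat.not_lt_zero _), fun _ h => absurd h (Nat.not_lt_zero _)⟩
    (fun j _ => (gram_of_chkG okLen chk_gram).1 j) _ (fun j hj => F.gen_row hj) (fun j _ w hw x => ?_)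
    (fun i hi j hj => F.gram hi hj) (fun j => rw C j 0) (fun j _ => F.ff_one _) _ (fun j hj => ?_) ?_
    fun j hj i hi _ _ h4 h5 => ?_
  · rcases (F.ker w).1 (hZ.ge hw) with rfl | rfl
    · rw [h1, one_mul, one_mul]
    · rw [h3, F.ff_odd fun c hc h => rw_zero hc h j]
  · rw [Finset.sum_eq_single j (fun i hi h => by rw [hg i (mem_range.1 hi) j hj, if_neg h, mul_zero])
      fun h => absurd (mem_range.2 hj) h, hg j hj j hj, if_pos rfl, (chk_dg j hj).2]
  · rw [chk_sum, ← hZ, F.card_ker, hN]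
    push_cast
    rfl
  · refine sep_or (F.gen_row hj) ?_ ?_ (F.ff_one _) (F.ff_one _) ?_
    · rw [F.gram hj hj, hg j hj j hj, if_pos rfl, h4]
      rfl
    · rw [F.gram hj (hi.trans hj), hg j hj i (hi.trans hj), if_neg hi.ne', Int.cast_zero]
    · rw [hN, Nat.cast_mul, ← mul_assoc]
      exact chk_sep j hj i hi h4 h5

/-- **the count** -/
theorem kk_eq (hZ : φ.ker = center L) {l : L → ℂ} (hl : Fl L l) (p : ℕ) : kk p ⊤ (center L) l = cnt p :=
  (F.en hZ hl).elim fun _ h => h.kk p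

end Fr

end Cfsg.Agent.MO.S.B2
end

-- part: MO/S/E62C/Cov
section
/-!
# MO, the covers of `²E₆(2)` (helper34)

The base is the presented group `HB`.

* `eqv` : `HB` is `²E₆(2)`; `pY : Y →* HB` with `pY (sY i) = s0 i`, `cvY : Cv 2 pY`, `ker_pY`;
* `iso2`, `iso3`, `iso6` : the covers of degree two, three, six are unique;
* `gk2`, `gf2`, `gk3`, `gk6` : the counts from one model.
-/

set_option autoImplicit false

namespace Cfsg.Agent.MO.S.E62C

open Cfsg Subgroup Cfsg.Lie Cfsg.Agent.H51.Mult Cfsg.Agent.H68.Bounds Cfsg.Agent.H133.FibPce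
open Cfsg.Agent.H66.TwESixCover Cfsg.Agent.TwoESix Cfsg.Agent.TwoESix.Cover Cfsg.Agent.TwoESix.Lift
open Cfsg.Agent.R01.Lifts

/-- the presented group is `²E₆(2)` -/
theorem eqv (K : Type) [Field K] [Fintype K] (hK : Fintype.card K = 4) : Nonempty (HB ≃* ↥(twistedE6 K 2)) := by
  have := BM.HBFinal.finite_HB
  obtain ⟨e, -, he, hgen, -⟩ := GoodInst.exists_good K hK
  exact ⟨MulEquiv.ofBijective _ (toHom_bijective he hgen (BM.HBFinal.hcard K hK))⟩

theorem exists_four : ∃ (K : Type) (_ : Field K) (_ : Fintype K), Fintype.card K = 4 := by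
  have : Fact (Nat.Prime 2) := ⟨Nat.prime_two⟩
  have := Fintype.ofFinite (GaloisField 2 2)
  exact ⟨GaloisField 2 2, inferInstance, this, by rw [← Nat.card_eq_fintype_card, GaloisField.card 2 2 (by norm_num)]; rfl⟩

theorem card_HB : Nat.card HB = 76532479683774853939200 := by
  obtain ⟨K, _, _, hK⟩ := exists_four
  obtain ⟨e⟩ := eqv K hK
  rw [Nat.card_congr e.toEquiv, BM.HBFinal.card_E K hK]

theorem center_HB : center HB = ⊥ := by
  obtain ⟨K, _, _, hK⟩ := exists_four
  obtain ⟨e⟩ := eqv K hK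
  obtain ⟨h1, h2⟩ := S1070.result (K := K) (q := 2) Nat.prime_two.isPrimePow hK
  have h3 : center ↥(twistedE6 K 2) = ⊥ := (h1.eq_bot_or_eq_top_of_normal _ inferInstance).resolve_right fun h =>
    h2 ⟨⟨fun a b => mem_center_iff.1 (h ▸ mem_top b) a⟩⟩
  refine eq_bot_iff.2 fun s hs => ?_
  have h4 := (T.mem_center_congr e s).2 hs
  rw [h3, mem_bot] at h4
  exact mem_bot.2 ((map_eq_one_iff e e.injective).1 h4)

/-- a group with the relations `ZRels` of twice the order of `HB` covers `HB` -/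
theorem exists_proj {C : Type} [Group C] {s : Fin 10 → C} {z : C} (h : ZRels s z) (htop : _root_.Subgroup.closure (Set.range s) = ⊤)
    (hc : Nat.card C = 2 * 76532479683774853939200) (hz : z ≠ 1) :
    ∃ π : C →* HB, (∀ i, π (s i) = s0 i) ∧ π.ker = zpowers z := by
  have := BM.HBFinal.finite_HB
  have hn : (zpowers z).Normal := normal_of_le_center
    (zpowers_le.2 (mem_center_iff.2 fun g => (h.z_central htop g).eq))
  let q := QuotientGroup.mk' (zpowers z)
  have h1 : ZRels (fun x => q (s x)) 1 := by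
    have h2 := h.map q
    rwa [show q z = 1 from (QuotientGroup.eq_one_iff _).2 (mem_zpowers z)] at h2
  have h2 : _root_.Subgroup.closure (Set.range fun x => q (s x)) = ⊤ := by
    rw [show (Set.range fun x => q (s x)) = q '' Set.range s from Set.range_comp q s, ← MonoidHom.map_closure, htop,
      ← MonoidHom.range_eq_map, MonoidHom.range_eq_top]
    exact QuotientGroup.mk'_surjective _
  have h3 : Nat.card HB ≤ Nat.card (C ⧸ zpowers z) := by
    have : Fact (Nat.Prime 2) := ⟨Nat.prime_two⟩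
    have h4 := card_eq_card_quotient_mul_card_subgroup (zpowers z)
    rw [hc, Nat.card_zpowers, orderOf_eq_prime (by rw [pow_two, h.zz]) hz] at h4
    rw [card_HB]
    omega
  let e := MulEquiv.ofBijective _ (toHom_bijective h1.good h2 h3)
  refine ⟨e.symm.toMonoidHom.comp q, fun i => ?_, ?_⟩
  · show e.symm (q (s i)) = s0 i
    rw [MulEquiv.symm_apply_eq]
    exact (toHom_s0 h1.good i).symm
  · ext x
    exact (map_eq_one_iff e.symm e.symm.injective).trans (QuotientGroup.eq_one_iff x)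

/-- the projection of the double cover in the Baby Monster -/
noncomputable def pY : Y →* HB := (exists_proj zrels_sY closure_sY card_Y zY_ne).choose

theorem pY_sY (i : Fin 10) : pY (sY i) = s0 i := (exists_proj zrels_sY closure_sY card_Y zY_ne).choose_spec.1 i

theorem ker_pY : pY.ker = zpowers zY := (exists_proj zrels_sY closure_sY card_Y zY_ne).choose_spec.2

theorem zY_cen : zY ∈ center Y := mem_center_iff.2 fun g => (zrels_sY.z_central closure_sY g).eq

theorem pY_ev (w : List (Fin 10)) : pY (Cox10.ev sY w) = Cox10.ev s0 w := by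
  rw [Cox10.ev_map]
  exact congrArg (Cox10.ev · w) (funext pY_sY)

theorem cvY : Cv 2 pY := by
  have : Fact (Nat.Prime 2) := ⟨Nat.prime_two⟩
  have := finite_Y
  refine cv_of_pce center_HB ⟨?_, ker_pY ▸ zpowers_le.2 zY_cen,
    perfect_of_word zrels_sY.lift zrels_sY.e213 closure_sY⟩ ?_ (ker_pY ▸ inferInstance)
  · rw [← MonoidHom.range_eq_top, eq_top_iff, ← closure_s0, closure_le]
    rintro _ ⟨i, rfl⟩
    exact ⟨sY i, pY_sY i⟩
  · rw [ker_pY, Nat.card_zpowers, orderOf_eq_prime (by rw [pow_two, zrels_sY.zz]) zY_ne]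

variable {X : Type} [Group X] [Finite X] {φ : X →* HB}

omit [Finite X] in
/-- **the double covers** -/
theorem iso2 (v : Cv 2 φ) : ∃ (α : X ≃* Y) (β : HB ≃* HB), ∀ x, pY (α x) = β (φ x) := by
  have := BM.HBFinal.finite_HB
  have hcov := S2493.nonsplit v.perf v.card
    ((QuotientGroup.quotientMulEquivOfEq v.ker.symm).trans (QuotientGroup.quotientKerEquivOfSurjective φ v.surj))
  obtain ⟨π, z, hz⟩ := exists_ext hcov
  obtain ⟨-, -, s, -, hs, htop⟩ := exists_gens hcov good_s0 closure_s0 le_rfl hz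
  have hK := card_of_ext hz
  obtain ⟨α, -, -⟩ := exists_mulEquiv hs zrels_sY htop closure_sY hK.ge (by rw [card_Y, card_HB])
  have h1 : φ.ker = (pY.comp α.toMonoidHom).ker := by
    ext x
    rw [v.ker, ← T.mem_center_congr α, ← cvY.ker]
    rfl
  have h2 : Function.Surjective (pY.comp α.toMonoidHom) := cvY.surj.comp α.surjective
  refine ⟨α, (QuotientGroup.quotientKerEquivOfSurjective φ v.surj).symm.trans
    ((QuotientGroup.quotientMulEquivOfEq h1).trans (QuotientGroup.quotientKerEquivOfSurjective _ h2)), fun x => ?_⟩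
  rw [MulEquiv.trans_apply, show (QuotientGroup.quotientKerEquivOfSurjective φ v.surj).symm (φ x) = (x : X ⧸ φ.ker) from
    (MulEquiv.symm_apply_eq _).2 rfl]
  rfl

variable {G : Type} [Group G] [Finite G] {pG : G →* HB}

/-- **the triple covers** -/
theorem iso3 (vG : Cv 3 pG) (v : Cv 3 φ) : ∃ γ : X ≃* G, ∀ x, pG (γ x) = φ x := by
  refine (dichotomy (pce_of_cv v) (pce_of_cv vG) (by rw [card_ker vG]; exact Nat.prime_three)
    ((card_ker v).trans (card_ker vG).symm)).resolve_left fun h => ?_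
  obtain ⟨K, _, _, hK⟩ := exists_four
  obtain ⟨e⟩ := eqv K hK
  have : Fact (Nat.Prime 2) := ⟨Nat.prime_two⟩
  have : CharP K 2 := charP_of_card_eq_prime_pow (f := 2) hK
  have h1 := pce_fib (pce_of_cv v) (pce_of_cv vG) h
  have h2 : (e.toMonoidHom.comp (pj φ pG)).ker = (pj φ pG).ker := by
    ext x
    exact map_eq_one_iff e e.injective
  have h3 : Nat.card (e.toMonoidHom.comp (pj φ pG)).ker = 9 := by
    rw [h2, Nat.card_congr (kerFib φ pG).toEquiv, Nat.card_prod, card_ker v, card_ker vG]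
  have h4 := H59.CrossTw.ker_E6 (q := 2) Nat.prime_two.isPrimePow 2 hK (π := e.toMonoidHom.comp (pj φ pG))
    ⟨e.surjective.comp h1.surj, h2 ▸ h1.cen, h1.perf⟩ (by rw [h3]; norm_num)
  rw [h3] at h4
  norm_num at h4

theorem cv6 (vG : Cv 3 pG) : Cv 6 (pj pY pG) :=
  have := finite_Y
  cv_fib (a := 2) (b := 3) (by norm_num) cvY vG

/-- **the sixfold covers** -/
theorem iso6 (vG : Cv 3 pG) (v : Cv 6 φ) : ∃ (e : X ≃* fib pY pG) (β : HB ≃* HB), ∀ x, pj pY pG (e x) = β (φ x) :=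
  have := finite_Y
  iso_fib (a := 2) (b := 3) (by norm_num) cvY vG (fun _ _ _ _ => iso2) (fun _ _ _ _ => iso3 vG) v

variable {p c : ℕ} {K : Type} [Field K] [Fintype K]

theorem gk2 (hK : Fintype.card K = 4) (h : ∀ l, Fl Y l → kk p ⊤ (center Y) l = c) : GK p 2 ↥(twistedE6 K 2) c :=
  have := finite_Y
  (eqv K hK).elim fun e => GK.congr e.symm
    (Cov2.gk_of_iso (fun _ _ _ _ v => (iso2 v).elim fun α _ => ⟨α⟩) h)

theorem gf2 (hK : Fintype.card K = 4) (h : ∀ α : MulAut Y, (∀ z ∈ center Y, α z = z) → (¬ ∃ x, α = MulAut.conj x) →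
    ∀ l, Fl Y l → fA p l α = c) : GF p 2 ↥(twistedE6 K 2) c :=
  have := finite_Y
  (eqv K hK).elim fun e => GF.congr e.symm
    (Cov2.gf_of_iso (fun _ _ _ _ v => (iso2 v).elim fun α _ => ⟨α⟩) h)

theorem gk3 (hK : Fintype.card K = 4) (vG : Cv 3 pG) (h : ∀ l, Fl G l → kk p ⊤ (center G) l = c) :
    GK p 3 ↥(twistedE6 K 2) c :=
  (eqv K hK).elim fun e => GK.congr e.symm
    (Cov2.gk_of_iso (fun _ _ _ _ v => (iso3 vG v).elim fun α _ => ⟨α⟩) h)

theorem gk6 (hK : Fintype.card K = 4) (vG : Cv 3 pG)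
    (h : ∀ l, Fl (fib pY pG) l → kk p ⊤ (center (fib pY pG)) l = c) : GK p 6 ↥(twistedE6 K 2) c :=
  have := finite_Y
  (eqv K hK).elim fun e => GK.congr e.symm
    (Cov2.gk_of_iso (fun _ _ _ _ v => (iso6 vG v).elim fun α _ => ⟨α⟩) h)

end Cfsg.Agent.MO.S.E62C
end

-- part: MO/S/E62H/Br
section
/-!
# MO, `3.²E₆(2)` : the seeds from the Brauer lift (helper63)

* `cp z w f` : the component of `f` over `z ↦ w`; `cp_z`, `cp_gen`, `cp_four`;
* `br f`, `l2 f` : the conjugate, the exterior square;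
* `Sd z w f` : `f` is a generalized character over `z ↦ w` with `f (x ^ 4) = f x`; `Sd.br`, `Sd.l2`, `Sd.odd`, `sd_lift`.
-/

set_option autoImplicit false

namespace Cfsg.Agent.MO.S.E62H

open Cfsg Subgroup Cfsg.Agent.TAB.Eng Cfsg.Agent.Characters
open Cfsg.Agent.Characters.Core Cfsg.Agent.Characters.Brauer Cfsg.Agent.H447.CTab
open scoped ComplexConjugate

variable {G : Type} [Group G] {z : G} {w : ℂ} {f : G → ℂ}

/-- the component over `z ↦ w` -/
noncomputable def cp (z : G) (w : ℂ) (f : G → ℂ) (x : G) : ℂ := (f x + w ^ 2 * f (z * x) + w * f (z * (z * x))) / 3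

/-- the complex conjugate -/
noncomputable def br (f : G → ℂ) (x : G) : ℂ := conj (f x)

/-- the exterior square -/
noncomputable def l2 (f : G → ℂ) (x : G) : ℂ := (f x * f x - f (x ^ 2)) / 2

theorem cp_z (h3 : z ^ 3 = 1) (hw : w ^ 3 = 1) (x : G) : cp z w f (z * x) = w * cp z w f x := by
  rw [cp, cp, show z * (z * (z * x)) = x by rw [← mul_assoc, ← mul_assoc, ← pow_three', h3, one_mul]]
  linear_combination -f (z * x) / 3 * hw

theorem z_pow (hz : z ∈ center G) (x : G) (k : ℕ) : (z * x) ^ k = z ^ k * x ^ k :=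
  (show Commute z x from (mem_center_iff.1 hz x).symm).mul_pow k

theorem cp_four (hz : z ∈ center G) (h3 : z ^ 3 = 1) (hf : ∀ x, f (x ^ 4) = f x) (x : G) : cp z w f (x ^ 4) = cp z w f x := by
  have h2 : ∀ y : G, z * y ^ 4 = (z * y) ^ 4 := fun y => by rw [z_pow hz, pow_succ z, h3, one_mul]
  rw [cp, cp, h2, h2, hf, hf, hf]

theorem cp_gen [Fintype G] (hz : z ∈ center G) (h3 : z ^ 3 = 1) (hw : 1 + w + w ^ 2 = 0) (hf : IsGeneralizedCharacter G f) :
    IsGeneralizedCharacter G (cp z w f) := by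
  have hc := gen_classFunction hf
  refine isGeneralizedCharacter_of_int (fun g c => ?_) fun χ hχ => ?_
  · have h1 : ∀ y, z * (c * y * c⁻¹) = c * (z * y) * c⁻¹ := fun y => by
      rw [← mul_assoc, ← mul_assoc, ← mem_center_iff.1 hz c, mul_assoc c]
    rw [cp, cp, h1, h1, hc, hc, hc]
  obtain ⟨c, h0, h1⟩ := Cov3.inner_sh hz hχ
  have h2 : classInner (cp z w f) χ = (1 + w ^ 2 * c + w * c ^ 2) / 3 * classInner f χ := by
    have h2 : cp z w f = (3 : ℂ)⁻¹ • (f + ((w ^ 2) • (fun x => f (z * x)) + w • fun x => f (z * (z * x)))) := by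
      funext x
      simp only [cp, Pi.smul_apply, Pi.add_apply, smul_eq_mul]
      ring
    rw [h2, classInner_smul_left, classInner_add_left, classInner_add_left, classInner_smul_left, classInner_smul_left,
      h1 fun x => f (z * x), h1]
    ring
  have h4 : (c - 1) * (c - w) * (c - w ^ 2) * classInner f χ = 0 := by
    have h4 := h1 fun x => f (z * (z * x))
    rw [h1 fun x => f (z * x), h1] at h4
    simp only [← mul_assoc, ← pow_three', h3, one_mul] at h4
    linear_combination -h4 + (classInner f χ * (c * w - c ^ 2 - w + 1)) * hw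
  have h5 := inner_mu hf ⟨χ, hχ⟩
  rcases mul_eq_zero.1 h4 with h6 | h6
  · rcases mul_eq_zero.1 h6 with h6 | h6
    · rcases mul_eq_zero.1 h6 with h6 | h6
      · exact ⟨0, by rw [h2, sub_eq_zero.1 h6, Int.cast_zero]; linear_combination classInner f χ / 3 * hw⟩
      · exact ⟨_, by
          rw [h2, sub_eq_zero.1 h6, show (1 + w ^ 2 * w + w * w ^ 2) / 3 = 1 by linear_combination 2 * (w - 1) / 3 * hw, one_mul]
          exact h5⟩
    · exact ⟨0, by
        rw [h2, sub_eq_zero.1 h6, Int.cast_zero]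
        linear_combination classInner f χ * (1 - w + w ^ 3) / 3 * hw⟩
  · exact ⟨0, by rw [h2, h6, mul_zero, Int.cast_zero]⟩

/-- **a seed** -/
structure Sd (z : G) (w : ℂ) (f : G → ℂ) : Prop where
  gen : IsGeneralizedCharacter G f
  sh : ∀ x, f (z * x) = w * f x
  four : ∀ x, f (x ^ 4) = f x

theorem Sd.conj [Finite G] (h : Sd z w f) (x c : G) : f (c * x * c⁻¹) = f x :=
  have := Fintype.ofFinite G
  gen_classFunction h.gen x c

theorem Sd.sh_pow (h : Sd z w f) (j : ℕ) (x : G) : f (z ^ j * x) = w ^ j * f x := by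
  induction j with
  | zero => rw [pow_zero, pow_zero, one_mul, one_mul]
  | succ j ih => rw [pow_succ', mul_assoc, h.sh, ih, pow_succ', mul_assoc]

theorem Sd.odd (h : Sd z w f) (j : ℕ) (x : G) : f (x ^ 4 ^ j) = f x := by
  induction j with
  | zero => rw [pow_zero, pow_one]
  | succ j ih => rw [pow_succ, pow_mul, h.four, ih]

theorem br_gen [Finite G] (h : IsGeneralizedCharacter G f) : IsGeneralizedCharacter G (br f) := by
  have := Fintype.ofFinite G
  obtain ⟨α, β, hα, hβ, rfl⟩ := h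
  exact ⟨_, _, isCharacter_conj hα, isCharacter_conj hβ, funext fun x => map_sub conj _ _⟩

theorem Sd.br [Finite G] (h : Sd z w f) : Sd z (starRingEnd ℂ w) (br f) :=
  ⟨br_gen h.gen, fun x => by rw [E62H.br, E62H.br, h.sh, map_mul], fun x => by rw [E62H.br, E62H.br, h.four]⟩

theorem Sd.l2 [Finite G] (hz : z ∈ center G) (h : Sd z w f) : Sd z (w ^ 2) (l2 f) :=
  have := Fintype.ofFinite G
  ⟨gen_ext_two h.gen, fun x => by rw [E62H.l2, E62H.l2, z_pow hz, h.sh_pow, h.sh]; ring, fun x => by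
    rw [E62H.l2, E62H.l2, ← pow_mul, mul_comm 4, pow_mul, h.four, h.four]⟩

theorem Sd.mul {v : ℂ} {g : G → ℂ} [Finite G] (h : Sd z w f) (h' : Sd z v g) : Sd z (w * v) fun x => f x * g x :=
  ⟨isGeneralizedCharacter_mul h.gen h'.gen, fun x => by rw [h.sh, h'.sh]; ring, fun x => by rw [h.four, h'.four]⟩

theorem conj_sq (hw : 1 + w + w ^ 2 = 0) : conj w = w ^ 2 ∧ conj w ^ 2 = w := by
  have h3 : w ^ 3 = 1 := by linear_combination (w - 1) * hw
  have h1 : w * conj w = 1 := by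
    rw [Complex.mul_conj, Complex.normSq_eq_norm_sq, Complex.norm_eq_one_of_pow_eq_one h3 three_ne_zero]
    simp
  have h2 : conj w = w ^ 2 := by linear_combination w ^ 2 * h1 - conj w * h3
  exact ⟨h2, by rw [h2]; linear_combination w * h3⟩

/-- **the Brauer lift and the exterior square of its conjugate** -/
theorem sd_lift [Finite G] {n : ℕ} {B : GL (Fin n) (ZMod 2) → ℂ} (hB : TAB.Cov.Lift B) (ρ : G →* GL (Fin n) (ZMod 2))
    (hz : z ∈ center G) (h3 : z ^ 3 = 1) (hw : 1 + w + w ^ 2 = 0) :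
    Sd z w (cp z w fun x => B (ρ x)) ∧ Sd z w (l2 (br (cp z w fun x => B (ρ x)))) := by
  have := Fintype.ofFinite G
  have h : Sd z w (cp z w fun x => B (ρ x)) := ⟨cp_gen hz h3 hw (H139.Cusp.isGeneralizedCharacter_comp ρ hB.gen),
    cp_z h3 (by linear_combination (w - 1) * hw), cp_four hz h3 fun x => by
      rw [map_pow, show 4 = 2 * 2 from rfl, pow_mul, hB.sq, hB.sq]⟩
  exact ⟨h, by simpa only [(conj_sq hw).2] using h.br.l2 hz⟩

example := And.intro @cp.eq_1 (And.intro @br.eq_1 @l2.eq_1)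

end Cfsg.Agent.MO.S.E62H
end

-- part: MO/S/E62G/Dat
section
/-!
# The matrices of `3.²E₆(2)` on the module of dimension 27 over the field with four elements (helper14, P3)

Data of `tools/P3/e62g/model.py` : bit `i` of a vector is the `1`-part, bit `27 + i` the `ω`-part of coordinate `i`.
`mg i` is the packed matrix (acting on columns) of the node `i < 10`, `mg 10` the scalar `ω`; `mr i` is the transposed
matrix (row `c` is the image of the unit vector `c`); `mJ` is the `ω`-part of the hermitian form.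
-/

set_option autoImplicit false
set_option maxRecDepth 100000
set_option exponentiation.threshold 5000

namespace Cfsg.Agent.MO.S.E62G

open Cfsg.Agent.Lib Cfsg.Agent.Lib.F2Mat Cfsg.Agent.Lib.F2MatGroup

/-- the matrices acting on columns -/
def mgL : List ℕ := [
  0x800000000000010000000000000200000000000004000000000000580000180000001000000000000020000000000021400001000000e280000400000301000048000009020000a000002904000420000084080008c0000248100011000007002000c8000021004001000000700080004000000801000a0000066002000000000036140048e0001600080040000027883000454001600020040000026588c00409000074888004c9000165810005810002d4a200014400000004000000000000080000000000001000000000000020000030000004c0000000000000800000000000010000020000014a0000080000061400009000000a0800014000006010000840000040200011800006104000220000160080019000000a0100020000014802000080000390040014000002c008000000003300100091c0001388a000800000a00040008a80012d11800800000a000100081200122e0600099200029604000b02000a4c480002880016f41,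
  0x986000030000016180000c0000020168000f000002000000030000100000000c0000044920000d0000084c800019000104850000d00002049400019000010000000000000200000000000004002000028000085c00000b8000100200002800002008000018000040d80000180000808000018000004200000040000236000006000010200000040000048000001000002200000040000010000000c0000080000003000000800000000000010000000000000200000006000004030000180000080c00001e000013cb400006000010c00000180000830000001a00002109000032000044240001a000081028000320001040a000000000080000000000001000000005000020a10000170000400000005000008a1000003000010640000030000200c00003000004640000008000020000000c000010300000080000800000002000002000000080000100000001800000b0000006000004c0000000000004000000000000080000000000001,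
  0x800000000000010000000000000200000000000004000000000000580000180000001000000000000020000000000001400005000000e280000c00000301000048000009020000a0000029040000200000c4080010c0000048100059000006002000680000290040002000003000800840000048010002000006400200440000023614000ae0001600080240000027083004554001200020080000022488c00839000034888008c900016c810008a100025ca200185400000004000000000000080000000000001000000000000020000030000004c00000000000008000000000000100000a0000014a0000180000041400009000000a0800014000006010000040000140200021800002104000b2000014008000d000002a0100004000014002001080000390040004000002c008008800002300100015c0001308a00480000020004008aa80002d11801000000b000100107200132a060011920003960400114200094c480030a80014f01,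
  0x9fe500000b80010b22800c1540027938000a0e400219b08002024010669100080280042ca800082100088e800018140102c9400080880208b4000180a0010173000000400200c2000001000414e000000200080c20000a0c00114e000028500020f4000001800040d800000200008ca00001840000438000000000020400000640001038000000000004200000100000208000004000001600000080000098000002000000800000000000010000000000000200000000170004fdc800182a800b5c4400141c80114a5000040480104d140010050081342800104200236d00003028004271000101100836680003014010258800000080080b88000002001006500000040020a7800014180042e2000050a0008064000003000107c0000004000206400003080004040000000000021c00000c800011b0000000000081c0000020000025000000800001140000010000009000000400000440000000000004000000000000080000000000001,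
  0x800000000000010000000000000200000000000004000000000000d80000080000001000000000000020000000000001400001000000228000000000010100004800000d020000800000090400002000000408000040000088100011000000402000400000000040000000002200800000000018010002000000000200000000006614000860000400080040000004283000404000000020000000000048c00001000012c88000c1000000810000810000122200004000000004000000000000080000000000001000000000000020000010000004c0000000000000800000000000010000020000004a0000000000011400009000001a0800010000004810000040000040200000800000304000220000000080008000001201000000000000020000000001100400040000004008000000000000100010c0000128a00080000030004000808000315180000000000001000002000002060001820000a604000102000024480000800000811,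
  0x8020000008000101800000100002014800000c00040000000000000800000000000010012000002000200400000010004005000000800080100000008001000000000000020000000000000400200000000008000000000000100000000040002008000001000040080000020000808000000000010000000000000206000000400004000000000000080000000000001000000000000020000000000000400000000000008000000000000100000000000002000000001000040300000020000808000000180010094000000000200000000000004000000000400080010000002001002400000100020008000001000400a00000000008000000000000100000000000002001000000000040000000008000801000000200010000000004000200c0000000000404000000000008000000008000102000000000002000000000000040000000000000800000000000010000000000000200000000000004000000000000080000000000001,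
  0x800000000000010000000000000200000000000004000000000000d80000080000001000000000000020000000000021400005000000a28000080000010100004800000d02000080000009040004200000c408000840000288100019000001402000e0000028004001200000720080000000005801000a000006600200040000026614004a60001400080040000025a83000504001400020040000024548c00431000052c88004c1000149810005a10002de2200015000000004000000000000080000000000001000000000000020000010000004c00000000000008000000000000100000a0000004a0000100000071400009000001a080001000000481000084000014020001080000430400032000012008001c000003201000240000108020000000003900400140000004008000800003200100094c00001a8a000800000b0004000a080013951800800000b0001000862001326060009820003a604000b42000b24480002a00016a51,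
  0x800000000000010000000000000200000000000004000000000000d800001000000010000000000000200000000000194000000000008280000400000341000040000008020000a000002d0400040000008208000880000208100010000006402000c8000020804001000000720080004000000801000a000006400200000000002b14004880001600080040000027223000450001600020040000026468c00408000074c88004c8000164a90005800002d40200014400000004000000000000080000000000001000000000000020000020000002c000000000000080000000000001000000000000ca0000080000051400008000000a080001400000681000080000006820001100000630400020000014408001900000000100020000014402000080000380040014000002c00800000000320010009100001378a000800000a00040008a00012851800800000a00010008100012214600099000029444000b00000a45480002880016f11,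
  0x800000000000010100000c0000025100000a00000210000002000010400000080000040000000800000884000018000100000000800002081000018000010000000000000200000000000004000000000000080000000a00001140000028000020000000000000400000000000008c8000018000004000000000000204000006000010000000000000040000001000002000000040000014000000800000900000020000008000000000000100000000000002000000000000040000001800000b08000014000010080000040000100000001000008000000010000022000000300000422000010000082000000300001020800000000008000000000000100000000000002000000014000042800000500000800000000000010000000000000200000003000004040000000000020000000c000011a000000000008000000020000024000000800001100000010000008000000400000400000000000004000000000000080000000000001,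
  0x800000000000010000000000000200000000000004000000000000d800001000000010000000000000200000000000094000000000000280000400000341000040000008020000a00000090400000000000208000080000008100010000002402000480000000040000000002200800040000008010002000000000200000000002314000880000600080040000006223000450000000020000000000048c00008000014c88000c8000004890000800000100200004400000004000000000000080000000000001000000000000020000020000002c0000000000000800000000000010000000000004a0000080000011400008000000a080001400000681000000000004820000100000030400020000004408000900000000100000000000002000080000100040004000000c00800000000000010001100000338a000800000200040008a00002051800000000000010000100000004600019000009444000100000004480000880000911,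
  0x800000100000010000002000000200000040000004000000800000080000010000001000000200000020000004000000400000080000008000001000000100000020000002000000400000040000008000000800000100000010000002000000200000040000004000000800000080000010000001000000200000020000004000000400000080000008000001000000100000020000002000000400000040000008000000800000100000010000002000000200000060000000000000400000000000008000000000000100000000000002000000000000040000000000000800000000000010000000000000200000000000004000000000000080000000000001000000000000020000000000000400000000000008000000000000100000000000002000000000000040000000000000800000000000010000000000000200000000000004000000000000080000000000001000000000000020000000000000400000000000008000000]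

/-- the transposed matrices -/
def mrL : List ℕ := [
  0x81fd00010a0001230a8004150002092a00030e000609a280030200080005000002001464a8000d20002846a000191400400140000080008015000000a00100530000000002004a0000010004047000008000081060000288001006800008400020500000098000401800000a00008080000084000141800000400002140000024000040000000000000ca000001000001000000000000032000000c00000400000000000008000000000000100000000000002000000021400044d6800082a00081d1400061c00108ad000060400308d94000004004000a8001a4000a06d400032280144700000010002002a0000014004008000000000080298000002001002100001000020038000051000402100001080008224000013000100e00000140002024000010800042500000080000a1c000004800010300000000000200000002000006100000000000080000001800001a000000000000200000000000004000000000000080000000000001,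
  0x800000000000010000000000000200000000000032000006000000d00000180000000400001000000008000040000001000001000000020000040000030100000c00000c0200003000000944000028000000080000f000008a1000014000025020000a00000000400000000022808000500000182040000e00000002000000000062100000e0000608040001500006202000054000001210000240000048800009000016dc80000b800004810000018000120200000600000004000000000000080000000000001000000c000000100000300000008000002000000420000080000010400002000000480000080000011000001800001b0800006000006c10000050000040200001e000003c4000028000040080001400001001000000000000020000a00001000400001c0000c282000000000000100001c0000328800002a000301420000a8000305100000480000000800012000000040000170000b4040000030000246800000c0000919,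
  0x80f9000129800123288004504002093a00030c4006093280033040080015000000801464a0000da1002844a000195000400100000088008015000000800100510000084002000a0000080004047000008200081040000284001002800008d000205400000b0000401800000a000080a0000080000140800000600002140000024000040000000000000ca000001400001000000000000032000000c00000400000000000008000000000000100000000000002000000025300044da80008a080080d5400061880108ac00006608030858400000100400088001b4200a04d400032a00144710000011002002a00000100040088000010800800980000100010025000010400200300000508004023000011a00082200000160001006000001400020240000100000425000000c0000a1c000004800010300000000000200000002800006000000000000080000001800001a000000000000200000000000004000000000000080000000000001,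
  0x800000000000010000000000000200000000000022000002000000900000080000028400001000000e08000000000029000001000000e20000000000036100004c000009820000800000080400042800004788001850000260100051400003d02000c00000294040010000007a8080080000004950400a06000478020040000002351000486000066a840240100007aa20044040014170100c00400245c0800c01000054d0800cc180010dcd000d8180029df200194000000004000000000000080000000000001000000400000190000010000006800000200000102000000000007040000200000108000000000007100000980000080800010000006c1000085000014a200030a00004284000a28000075080018000002e8100020000010a020010000001d40400140c0000cb020080000033c0100090c00003b08004802000a35020088080012d4100180080090b9080180200112e44001983000196e4001b03000b0e080032800012bf9,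
  0x8820000008000121800004100002094800020c00060800000200000800000000000014692000082000284c000018100040050000008000801000000080010000000000000200000000000004042000000000081400000200001000000008400020480000010000404800000200008080000080000142000000000002160000024000040000000000000c8000001000001000000000000032000000800000400000000000008000000000000100000000000002000000001000044300000820000808000004180010c9400004000030c0000000000040000000104000a1410000302001446400000100020008000001000400a00000000008000000000000100000000000002021000004000040200000108000821000000200010200000004000202c000010000042400000000000a10000004800010200000000000200000002000006000000000000080000001000001b000000000000200000000000004000000000000080000000000001,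
  0x800000000000010000000000000200000000000004000000000000080000000000001000000000000020000000000000400000000000008000000000010100004000000c020000800000080400000000000008000000000080100010000000002000400000000040000000002000800000000018010002000000000200000000006004000800000400080040000004001000400000000020000000000000400000000012808000c000000081000080000012020000400000000400000000000008000000000000100000000000002000000000000040000000000000800000000000010000000000000200000000000004000080000018080001000000401000000000004020000000000000400020000000008000800000100100000000000002000000000100040004000000400800000000000010001000000100200080000030004000800000300080000000000001000000000000020001800000a404000100000024080000800000801,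
  0x89ad00002a000121a28004550002095a00020e000608b280023200080015000002001469a80008a000284e0000185400400540000080008010000000a0010013000008000200420000090004047000000000081420000208001004800008c000204c00000380004048000002000080a0000084000143800000200002160000024000040000000000000c80000014000010000000000000320000008000004000000000000080000000000001000000000000020000000054000447e80008aa0008185400041c0010c9500004640030c9140000040040002800114000a165400030a80144650000010002000a000001400400a80000100008029800001200100050000000002023800004100040230000118000821400000700010280000004000202c000010800042400000040000a14000004800010200000000000200000002800006100000000000080000001000001b000000000000200000000000004000000000000080000000000001,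
  0x88fd00010a0001250a8000150002112a00010e0006142280010200080005000002001448a80005200028dca000011400400140000080008015000000a00100130000000002010a0000010004007000008000081460000088001042800000400020000000098000405800000a00008580000004000142800000400002140000004000040000000000000cc00000000000100000000000003400000040000040000000000000800000000000010000000000000200000002140004056800002a00092d1400021c0010cad00002040030e194000004004000a8000a4000a30d400002280146a00000010002002a0000014004008000000000080098000002001008100001000020238000011000408100000080008204000013000102600000140002004000000800042d00000080000a04000000800010b00000000000200000000000006600000000000080000000800001b000000000000200000000000004000000000000080000000000001,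
  0x800000000000010000000000000200000000000002000002000000100000080000008400001000000008000000000009000001000000020000000000016100000c000000020000000000080400002800000288000050000000100001400000002000000000000040000000000000800000000008104000060000000200000000002110000060000000840000100000022000004000000010000040000000800001000000808000018000008d000001800000020000000000000400000000000008000000000000100000040000009000001000000280000020000000200000000000004000020000000800000000000010000018000008080000000000001000005000004a200000a00000004000028000005080000000000001000000000000020000000000000400000c00004102000000000000100000c00001108000002000000020000080000001000000800000108000020000004400000300000464000003000004080000000000001,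
  0x8860000108000121000000100002112800010c0006100000010000080000000000001448200005200028cc800001100040010000008000801400000080010000000000000200000000000004002000008000081400000080001042000000400020000000090000405800000a00008480000000000142000000400002140000004000040000000000000c800000000000100000000000003400000040000040000000000000800000000000010000000000000200000002100004010000002000090c000002180010ca400002000030c00000000000400000000a4000a30900000220014620000001000200280000010004008000000000080000000000001000000001000020210000010000408000000080008200000012000102400000140002004000000000042400000080000a00000000800010b00000000000200000000000006400000000000080000000800001b000000000000200000000000004000000000000080000000000001,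
  0x800000100000010000002000000200000040000004000000800000080000010000001000000200000020000004000000400000080000008000001000000100000020000002000000400000040000008000000800000100000010000002000000200000040000004000000800000080000010000001000000200000020000004000000400000080000008000001000000100000020000002000000400000040000008000000800000100000010000002000000200000060000000000000400000000000008000000000000100000000000002000000000000040000000000000800000000000010000000000000200000000000004000000000000080000000000001000000000000020000000000000400000000000008000000000000100000000000002000000000000040000000000000800000000000010000000000000200000000000004000000000000080000000000001000000000000020000000000000400000000000008000000]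

/-- the form -/
def mJ : ℕ := 0x40000000000002000000000000100000000000008000000000000400000000000020000000000002000000000000040000000000008000000000000100000000000020000000000000400000000000100000000000002000000000000040000000000010000000000000200000000000040000000000000800000000000100000000000002000000000000200000000000010000000000000800000000000040000000000002000000000000100000000000008000000000000400000000000020000000000001000000000000080000000000004000000000000400000000000008000000000001000000000000020000000000004000000000000080000000000020000000000000400000000000008000000000002000000000000040000000000008000000000000100000000000020000000000000400000000000040000000000002000000000000100000000000008000000000000400000000000020000000000000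

/-- the inverse of the form -/
def mJi : ℕ := 0x40000000000002000000000000100000000000008000000000000400000000000020000000000002000000000000040000000000008000000000000100000000000020000000000000400000000000100000000000002000000000000040000000000010000000000000200000000000040000000000000800000000000100000000000002000000000000200000000000010000000000000800000000000040000000000002000000000000100000000000008000000000000400000000000020000000000001000000000000080000000000004000000000000400000000000008000000000001000000000000020000000000004000000000000080000000000020000000000000400000000000008000000000002000000000000040000000000008000000000000100000000000020000000000000400000000000040000000000002000000000000100000000000008000000000000400000000000020000000000000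

/-- the matrix of a letter -/
def mg (i : ℕ) : ℕ := get (F2Mat.one 54) mgL i

/-- the transposed matrix of a letter -/
def mr (i : ℕ) : ℕ := get (F2Mat.one 54) mrL i

/-- the matrix of a word -/
def mw (w : List ℕ) : ℕ := evW 54 mgL w

/-- `A` is the transposed matrix of `B` -/
def trB (A B : ℕ) : Bool :=
  force A fun A => force B fun B => (List.range 54).all fun i => (List.range 54).all fun j =>
    A.testBit (54 * i + j) == B.testBit (54 * j + i)

/-- the labels of the diagram -/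
def lb (i j : ℕ) : ℕ :=
  if i = j then 1 else if (i, j) ∈ [(0, 1), (1, 2), (2, 3), (3, 4), (4, 5), (5, 6), (3, 7), (7, 8), (8, 9)] ∨
    (j, i) ∈ [(0, 1), (1, 2), (2, 3), (3, 4), (4, 5), (5, 6), (3, 7), (7, 8), (8, 9)] then 3 else 2

private noncomputable def _root_.Cfsg.Agent.LsF.f8ff930_15 : {f // @Cfsg.Agent.MO.S.E62G.lb = f} := ⟨_, by first | (delta Cfsg.Agent.MO.S.E62G.lb; rewrite [Cfsg.Agent.LsF.dMemP_pat, Cfsg.Agent.LsF.dProdEq_eq, Cfsg.Agent.LsF.instDecEq_eq, Cfsg.Agent.LsF.dOr_eq, Cfsg.Agent.LsF.ite_eq]; exact rfl) | exact rfl⟩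
theorem cox_chk : ∀ i < 10, ∀ j < 10, Nat.beq (npow 54 (F2Mat.mul 54 (mg i) (mg j)) (lb i j)) (F2Mat.one 54) = true := by
  (refine of_decide_eq_true ?_; (try (rewrite [Cfsg.Agent.LsF.f8ff930_15.2, Cfsg.Agent.LsF.dBoolEq_eq, Cfsg.Agent.LsF.dBallLT_eq, Cfsg.Agent.LsF.decide_eq])); decide +kernel)

theorem inv_chk : ∀ i < 10, Nat.beq (F2Mat.mul 54 (mg i) (mg i)) (F2Mat.one 54) = true := by decide +kernel

theorem om_chk : Nat.beq (F2Mat.mul 54 (mg 10) (mw [10, 10])) (F2Mat.one 54) = true ∧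
    Nat.beq (F2Mat.mul 54 (mw [10, 10]) (mg 10)) (F2Mat.one 54) = true ∧
    Nat.beq (mw [10, 10]) (Nat.xor (mg 10) (F2Mat.one 54)) = true ∧ Nat.beq (mw [10]) (mw []) = false ∧
    ∀ i < 10, Nat.beq (mw [10, i]) (mw [i, 10]) = true := by decide +kernel

theorem rel_chk : Nat.beq (npow 54 (mw [3, 2, 1, 3, 4, 5, 3, 7, 8]) 10) (mw [10, 10]) = true ∧
    Nat.beq (npow 54 (mw [3, 2, 1, 0, 4, 5, 7]) 9) (F2Mat.one 54) = true ∧
    Nat.beq (npow 54 (mw [3, 2, 1, 4, 5, 6, 7]) 9) (F2Mat.one 54) = true ∧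
    Nat.beq (npow 54 (mw [3, 2, 1, 4, 7, 8, 9]) 9) (F2Mat.one 54) = true := by decide +kernel

namespace Q5

/-- a row against a column -/
def trK (n : ℕ) : ℕ → ℕ → Bool :=
  Nat.rec (fun _ _ => true) (fun _ ih a b => cond (Nat.beq (Nat.land (Nat.xor a b) 1) 0)
    (ih (Nat.shiftRight a 1) (Nat.shiftRight b 54)) false) n

theorem trK_spec {n a b j : ℕ} (h : trK n a b = true) (hj : j < n) : a.testBit j = b.testBit (54 * j) := by
  induction n generalizing a b j with
  | zero => omega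
  | succ n ih =>
    have e : trK (n + 1) a b = cond (Nat.beq ((a ^^^ b) &&& 1) 0) (trK n (a >>> 1) (b >>> 54)) false := rfl
    rw [e] at h
    cases h1 : Nat.beq ((a ^^^ b) &&& 1) 0 with
    | false => rw [h1] at h; exact Bool.noConfusion h
    | true =>
      rw [h1] at h
      cases j with
      | zero =>
        have h2 : (a ^^^ b).testBit 0 = false := by
          rw [Nat.testBit_zero, ← Nat.and_one_is_mod, Nat.eq_of_beq_eq_true h1]; rfl
        rw [Nat.testBit_xor] at h2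
        revert h2
        show _ → a.testBit 0 = b.testBit 0
        cases a.testBit 0 <;> cases b.testBit 0 <;> decide
      | succ j =>
        have h2 := ih h (Nat.lt_of_succ_lt_succ hj)
        rwa [Nat.testBit_shiftRight, Nat.testBit_shiftRight, Nat.add_comm 1, Nat.add_comm 54, ← Nat.mul_succ] at h2

/-- all rows -/
def trA (A B n : ℕ) : Bool :=
  Nat.rec true (fun i ih => cond (trK 54 (Nat.shiftRight A (Nat.mul 54 i)) (Nat.shiftRight B i)) ih false) n

theorem trA_spec {A B n i : ℕ} (h : trA A B n = true) (hi : i < n) : trK 54 (A >>> (54 * i)) (B >>> i) = true := by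
  induction n with
  | zero => omega
  | succ n ih =>
    have e : trA A B (n + 1) = cond (trK 54 (A >>> (54 * n)) (B >>> n)) (trA A B n) false := rfl
    rw [e] at h
    cases h1 : trK 54 (A >>> (54 * n)) (B >>> n) with
    | false => rw [h1] at h; exact Bool.noConfusion h
    | true =>
      rw [h1] at h
      exact (Nat.lt_succ_iff_lt_or_eq.1 hi).elim (ih h) fun e => e ▸ h1

theorem trB_of {A B : ℕ} (h : trA A B 54 = true) : trB A B = true := by
  rw [trB, force_eq, force_eq]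
  refine List.all_eq_true.2 fun i hi => List.all_eq_true.2 fun j hj => ?_
  have h1 := trK_spec (trA_spec h (List.mem_range.1 hi)) (List.mem_range.1 hj)
  rw [Nat.testBit_shiftRight, Nat.testBit_shiftRight, Nat.add_comm i] at h1
  rw [h1]
  exact beq_self_eq_true _

end Q5

private noncomputable def _root_.Cfsg.Agent.LsF.f8ff930_16 : {f // @Cfsg.Agent.MO.S.E62G.Q5.trK = f} := ⟨_, by first | (delta Cfsg.Agent.MO.S.E62G.Q5.trK; rewrite [Cfsg.Agent.LsF.cond_eq]; exact rfl) | exact rfl⟩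
private noncomputable def _root_.Cfsg.Agent.LsF.f8ff930_17 : {f // @Cfsg.Agent.MO.S.E62G.Q5.trA = f} := ⟨_, by first | (delta Cfsg.Agent.MO.S.E62G.Q5.trA; rewrite [Cfsg.Agent.LsF.f8ff930_16.2, Cfsg.Agent.LsF.cond_eq]; exact rfl) | exact rfl⟩
theorem tr_chk : ∀ i < 11, trB (mr i) (mg i) = true := fun i hi =>
  Q5.trB_of ((by (refine of_decide_eq_true ?_; (try (rewrite [Cfsg.Agent.LsF.f8ff930_17.2, Cfsg.Agent.LsF.dBoolEq_eq, Cfsg.Agent.LsF.dBallLT_eq, Cfsg.Agent.LsF.decide_eq])); decide +kernel) : ∀ i < 11, Q5.trA (mr i) (mg i) 54 = true) i hi)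

theorem form_chk : trB mJ mJ = true ∧ Nat.beq (F2Mat.mul 54 mJ mJi) (F2Mat.one 54) = true ∧
    ∀ i < 11, Nat.beq (F2Mat.mul 54 (mr i) (F2Mat.mul 54 mJ (mg i))) mJ = true :=
  ⟨Q5.trB_of (by decide +kernel), by decide +kernel⟩

end Cfsg.Agent.MO.S.E62G
end

-- part: MO/S/E62G/Mdl
section
/-!
# The triple cover `3.²E₆(2)` as a group of matrices (helper14, P3)

* `G`, `rho : G →* GL (Fin 54) (ZMod 2)` injective; `sG i` the nodes, `zG` the scalar `ω`;
* `wd w` the value of a word (letters `i < 10` the nodes, `10` the scalar), `codes_wd`, `wd_surj`;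
* `pG : G →* HB`, `pG_sG`, `ker_pG`, `cvG : Cv 3 pG`, `center_G`, `card_G`.
-/

set_option autoImplicit false
set_option maxRecDepth 100000
set_option exponentiation.threshold 5000

namespace Cfsg.Agent.MO.S.E62G

open Cfsg Subgroup Cfsg.Agent.Lib Cfsg.Agent.Lib.F2Mat Cfsg.Agent.Lib.F2MatGroup
open Cfsg.Agent.TwoESix Cfsg.Agent.TwoESix.Cox10 Cfsg.Agent.TwoESix.Cover Cfsg.Agent.TwoESix.Lift
open Cfsg.Agent.MO.S.E62C

/-- the matrix of a node -/
def un (i : Fin 10) : GL (Fin 54) (ZMod 2) := unit 54 (mg i) (mg i) (inv_chk i i.2) (inv_chk i i.2)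

/-- the group of matrices -/
def Gs : Subgroup (GL (Fin 54) (ZMod 2)) := _root_.Subgroup.closure (Set.range un)

/-- the triple cover -/
def G : Type := ↥Gs

instance instGroupG : Group G := inferInstanceAs (Group ↥Gs)

instance instFiniteG : Finite G := inferInstanceAs (Finite ↥Gs)

/-- the module -/
def rho : G →* GL (Fin 54) (ZMod 2) := Gs.subtype

theorem rho_inj : Function.Injective rho := Subtype.val_injective

theorem rho_mem (g : G) : rho g ∈ Subgroup.closure (Set.range un) := g.2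

/-- the nodes -/
def sG (i : Fin 10) : G := (⟨un i, subset_closure ⟨i, rfl⟩⟩ : ↥Gs)

theorem rho_sG (i : Fin 10) : rho (sG i) = un i := rfl

theorem codes_sG (i : Fin 10) : Codes 54 (rho (sG i)) (mg i) := rfl

theorem closure_sG : _root_.Subgroup.closure (Set.range sG) = ⊤ := by
  refine map_injective rho_inj ?_
  rw [MonoidHom.map_closure, ← Set.range_comp, ← MonoidHom.range_eq_map]
  exact (range_subtype Gs).symm

theorem codes_ev : ∀ w : List (Fin 10), Codes 54 (rho (ev sG w)) (mw (w.map Fin.val))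
  | [] => by
    rw [ev_nil, map_one]
    exact Codes.one 54
  | i :: w => by
    rw [ev_cons, map_mul]
    exact (codes_sG i).mul (codes_ev w)

/-- the scalar `ω` -/
def zG : G := (ev sG spider ^ 10) ^ 2

theorem z_chk : Nat.beq (npow 54 (mw [10, 10]) 2) (mg 10) = true ∧ Nat.beq (mw [0]) (mw []) = false := by
  decide +kernel

theorem codes_spider : Codes 54 (rho (ev sG spider ^ 10)) (mw [10, 10]) := by
  rw [map_pow, ← Nat.eq_of_beq_eq_true rel_chk.1]
  exact (codes_ev spider).pow 10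

theorem codes_zG : Codes 54 (rho zG) (mg 10) := by
  rw [zG, map_pow, ← Nat.eq_of_beq_eq_true z_chk.1]
  exact codes_spider.pow 2

/-- the letters -/
def LG : List G := [sG 0, sG 1, sG 2, sG 3, sG 4, sG 5, sG 6, sG 7, sG 8, sG 9, zG]

/-- the value of a word -/
def wd (w : List ℕ) : G := evG LG w

theorem wd_nil : wd [] = 1 := rfl

theorem wd_cons (i : ℕ) (w : List ℕ) : wd (i :: w) = wd [i] * wd w := by
  rw [wd, wd, wd, evG_cons, evG_cons, evG_nil, mul_one]

theorem wd_append (v w : List ℕ) : wd (v ++ w) = wd v * wd w := by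
  induction v with
  | nil => rw [List.nil_append, wd_nil, one_mul]
  | cons i v ih => rw [List.cons_append, wd_cons, ih, wd_cons i v, mul_assoc]

theorem wd_node (i : Fin 10) : wd [i] = sG i := by
  rw [wd, evG_cons, evG_nil, mul_one]
  fin_cases i <;> rfl

theorem wd_ten : wd [10] = zG := by
  rw [wd, evG_cons, evG_nil, mul_one]
  rfl

theorem wd_big {i : ℕ} (h : 10 < i) : wd [i] = 1 := by
  rw [wd, evG_cons, evG_nil, mul_one, getG, List.getD_eq_default _ _ h]

theorem wd_ev : ∀ w : List (Fin 10), wd (w.map Fin.val) = ev sG w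
  | [] => rfl
  | i :: w => by rw [List.map_cons, wd_cons, wd_node, wd_ev w, ev_cons]

theorem codes_LG : List.Forall₂ (Codes 54) (LG.map rho) mgL :=
  .cons (codes_sG 0) (.cons (codes_sG 1) (.cons (codes_sG 2) (.cons (codes_sG 3) (.cons (codes_sG 4)
    (.cons (codes_sG 5) (.cons (codes_sG 6) (.cons (codes_sG 7) (.cons (codes_sG 8) (.cons (codes_sG 9)
    (.cons codes_zG .nil))))))))))

theorem codes_wd (w : List ℕ) : Codes 54 (rho (wd w)) (mw w) := by
  rw [wd, ← evG_map]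
  exact codes_evW codes_LG w

theorem codes_letter (i : ℕ) : Codes 54 (rho (wd [i])) (mg i) := by
  rw [wd, evG_cons, evG_nil, mul_one, ← getG_map]
  exact codes_get codes_LG i

theorem wd_eq {v w : List ℕ} (h : Nat.beq (mw v) (mw w) = true) : wd v = wd w :=
  rho_inj ((codes_wd v).eq (codes_wd w) h)

theorem wd_ne {v w : List ℕ} (h : Nat.beq (mw v) (mw w) = false) : wd v ≠ wd w := fun e => by
  have e1 := codes_wd v
  have e2 := codes_wd w
  unfold Codes at e1 e2
  have h1 : mw v = mw w := toMat_inj (evW_lt (by decide) _ _) (evW_lt (by decide) _ _) (by rw [← e1, ← e2, e])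
  rw [h1, Nat.beq_refl] at h
  exact absurd h (by decide)

theorem lb_eq : ∀ i j : Fin 10, lb i j = lab i j := by decide +kernel

theorem lift_sG : M10.IsLiftable sG := fun i j => rho_inj (by
  rw [M10_apply, ← lb_eq, map_pow, map_mul, map_one]
  exact (((codes_sG i).mul (codes_sG j)).pow _).eq_one (cox_chk i i.2 j j.2))

theorem ev_surj (g : G) : ∃ w : List (Fin 10), g = ev sG w := by
  have h : g ∈ _root_.Subgroup.closure (Set.range sG) := closure_sG ▸ mem_top g
  induction h using closure_induction with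
  | mem x hx =>
    obtain ⟨i, rfl⟩ := hx
    exact ⟨[i], by rw [ev_cons, ev_nil, mul_one]⟩
  | one => exact ⟨[], rfl⟩
  | mul x y _ _ hx hy =>
    obtain ⟨v, rfl⟩ := hx
    obtain ⟨w, rfl⟩ := hy
    exact ⟨v ++ w, (ev_append _ _ _).symm⟩
  | inv x _ hx =>
    obtain ⟨v, rfl⟩ := hx
    exact ⟨v.reverse, (ev_reverse lift_sG v).symm⟩

theorem wd_surj (g : G) : ∃ w, g = wd w := by
  obtain ⟨w, rfl⟩ := ev_surj g
  exact ⟨_, (wd_ev w).symm⟩

theorem zG_ne : zG ≠ 1 := by
  have h := wd_ne om_chk.2.2.2.1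
  rwa [wd_ten, wd_nil] at h

theorem zG_cube : zG ^ 3 = 1 := by
  have h := (codes_zG.mul (codes_wd [10, 10])).eq_one om_chk.1
  rw [← map_mul, wd_cons 10 [10], wd_ten, ← pow_three] at h
  exact rho_inj (h.trans (map_one rho).symm)

theorem orderOf_zG : orderOf zG = 3 := by
  have : Fact (Nat.Prime 3) := ⟨Nat.prime_three⟩
  exact orderOf_eq_prime zG_cube zG_ne

theorem zG_cen : zG ∈ center G := by
  have h : ∀ i : Fin 10, sG i * zG = zG * sG i := fun i => by
    have h1 := wd_eq (om_chk.2.2.2.2 i i.2)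
    rw [wd_cons 10 [i], wd_cons i [10], wd_ten, wd_node] at h1
    exact h1.symm
  refine mem_center_iff.2 fun g => ?_
  obtain ⟨w, rfl⟩ := ev_surj g
  induction w with
  | nil => rw [ev_nil, one_mul, mul_one]
  | cons i w ih => rw [ev_cons, mul_assoc, ih, ← mul_assoc, h, mul_assoc]

theorem zG_comm (g : G) : zG * g = g * zG := (mem_center_iff.1 zG_cen g).symm

theorem zG_three (g : G) : zG * (zG * (zG * g)) = g := by
  rw [← mul_assoc, ← mul_assoc, ← pow_three', zG_cube, one_mul]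

theorem spider_sG : ev sG spider ^ 10 = zG ^ 2 := by
  have h := codes_spider.eq (codes_wd [10, 10]) (Nat.beq_refl _)
  rw [wd_cons 10 [10], wd_ten, ← pow_two] at h
  exact rho_inj h

theorem e7_sG {w : List (Fin 10)} (h : Nat.beq (npow 54 (mw (w.map Fin.val)) 9) (F2Mat.one 54) = true) :
    ev sG w ^ 9 = 1 := rho_inj (by
  rw [map_pow, map_one]
  exact ((codes_ev w).pow 9).eq_one h)

theorem e321_sG : ev sG W321 ^ 9 = 1 := e7_sG (w := [3, 2, 1, 0, 4, 5, 7]) rel_chk.2.1

theorem e231_sG : ev sG W231 ^ 9 = 1 := e7_sG (w := [3, 2, 1, 4, 5, 6, 7]) rel_chk.2.2.1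

theorem e213_sG : ev sG W213 ^ 9 = 1 := e7_sG (w := [3, 2, 1, 4, 7, 8, 9]) rel_chk.2.2.2

theorem perf_G : _root_.commutator G = ⊤ :=
  H66.TwESixCover.perfect_of_word lift_sG e213_sG closure_sG

theorem simple_HB : IsSimpleGroup HB := by
  obtain ⟨K, _, _, hK⟩ := exists_four
  obtain ⟨e⟩ := eqv K hK
  have := (S1070.result (K := K) (q := 2) Nat.prime_two.isPrimePow hK).1
  exact e.isSimpleGroup

theorem exists_pG : ∃ π : G →* HB, (∀ i, π (sG i) = s0 i) ∧ π.ker = zpowers zG := by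
  have hn : (zpowers zG).Normal := ⟨fun n hn g => by
    rwa [mem_center_iff.1 (zpowers_le.2 zG_cen hn) g, mul_inv_cancel_right]⟩
  let q := QuotientGroup.mk' (zpowers zG)
  have h0 : ∀ w, ev (fun x => q (sG x)) w = q (ev sG w) := fun w => (ev_map q sG w).symm
  have h1 : Good fun x => q (sG x) := by
    refine ⟨fun i j => by rw [← map_mul, ← map_pow, lift_sG i j, map_one], ?_, ?_, ?_, ?_⟩
    · rw [h0, ← map_pow, spider_sG]
      exact (QuotientGroup.eq_one_iff _).2 (pow_mem (mem_zpowers zG) 2)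
    · rw [h0, ← map_pow, e321_sG, map_one]
    · rw [h0, ← map_pow, e231_sG, map_one]
    · rw [h0, ← map_pow, e213_sG, map_one]
  have h2 : _root_.Subgroup.closure (Set.range fun x => q (sG x)) = ⊤ := by
    rw [show (Set.range fun x => q (sG x)) = q '' Set.range sG from Set.range_comp q sG, ← MonoidHom.map_closure,
      closure_sG, ← MonoidHom.range_eq_map, MonoidHom.range_eq_top]
    exact QuotientGroup.mk'_surjective _
  have h3 : Function.Injective (toHom h1) := by
    have := simple_HB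
    rw [← MonoidHom.ker_eq_bot_iff]
    refine (IsSimpleGroup.eq_bot_or_eq_top_of_normal _ inferInstance).resolve_right fun h => ?_
    have h4 : toHom h1 (s0 0) = 1 := (h ▸ mem_top _ : s0 0 ∈ (toHom h1).ker)
    rw [toHom_s0] at h4
    obtain ⟨k, hk⟩ := mem_zpowers_iff.1 ((QuotientGroup.eq_one_iff _).1 h4)
    have h5 : sG 0 ^ 3 = 1 := by rw [← hk, ← zpow_natCast, ← zpow_mul, mul_comm, zpow_mul, zpow_natCast, zG_cube, one_zpow]
    rw [pow_three, Cox10.sq lift_sG 0, mul_one] at h5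
    exact wd_ne z_chk.2 ((wd_node 0).trans (h5.trans wd_nil.symm))
  let e := MulEquiv.ofBijective _ ⟨h3, toHom_surjective h1 h2⟩
  refine ⟨e.symm.toMonoidHom.comp q, fun i => ?_, ?_⟩
  · show e.symm (q (sG i)) = s0 i
    rw [MulEquiv.symm_apply_eq]
    exact (toHom_s0 h1 i).symm
  · ext x
    exact (map_eq_one_iff e.symm e.symm.injective).trans (QuotientGroup.eq_one_iff x)

/-- the projection -/
noncomputable def pG : G →* HB := exists_pG.choose

theorem pG_sG (i : Fin 10) : pG (sG i) = s0 i := exists_pG.choose_spec.1 i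

theorem ker_pG : pG.ker = zpowers zG := exists_pG.choose_spec.2

theorem pG_zG : pG zG = 1 := (ker_pG ▸ mem_zpowers zG : zG ∈ pG.ker)

theorem pG_ev (w : List (Fin 10)) : pG (ev sG w) = ev s0 w := by
  rw [ev_map]
  exact congrArg (ev · w) (funext pG_sG)

theorem pG_wd (i : Fin 10) : pG (wd [i]) = s0 i := by rw [wd_node, pG_sG]

theorem ker_pG' : pG.ker = zpowers (wd [10]) := by rw [wd_ten, ker_pG]

/-- **the model of the triple cover** -/
theorem cvG : Cv 3 pG := by
  refine cv_of_pce center_HB ⟨?_, ker_pG ▸ zpowers_le.2 zG_cen, perf_G⟩ ?_ (ker_pG ▸ inferInstance)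
  · rw [← MonoidHom.range_eq_top, eq_top_iff, ← closure_s0, closure_le]
    rintro _ ⟨i, rfl⟩
    exact ⟨sG i, pG_sG i⟩
  · rw [ker_pG, Nat.card_zpowers, orderOf_zG]

theorem center_G : center G = zpowers zG := cvG.ker.symm.trans ker_pG

theorem card_G : Nat.card G = 229597439051324561817600 := by rw [card_of_cv cvG, card_HB]

theorem exists_z {x y : G} (h : pG x = pG y) : ∃ j < 3, x = zG ^ j * y := by
  have h1 : x * y⁻¹ ∈ zpowers zG := by rw [← ker_pG, MonoidHom.mem_ker, map_mul, map_inv, h, mul_inv_cancel]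
  obtain ⟨j, hj⟩ := (Submonoid.mem_powers_iff _ _).1 (mem_powers_iff_mem_zpowers.2 h1)
  exact ⟨j % 3, Nat.mod_lt _ (by decide), by rw [← orderOf_zG, pow_mod_orderOf, hj, inv_mul_cancel_right]⟩

end Cfsg.Agent.MO.S.E62G
end

private theorem dce_06d35affc866 : _root_.True := by
  try have : _root_.True := by simp only [_root_.Cfsg.Agent.MO.S.B2.ff.eq_1]
  try have : _root_.True := by simp only [_root_.Cfsg.Agent.MO.S.E62H.br.eq_1]
  try have : _root_.True := by simp only [_root_.Cfsg.Agent.MO.S.B2.cnd.eq_1]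
  try have : _root_.True := by simp only [_root_.Cfsg.Agent.MO.S.B2.alw.eq_1]
  try have : _root_.True := by simp only [_root_.Cfsg.Agent.MO.S.B2.alw1.eq_1]
  try have : _root_.True := by simp only [_root_.Cfsg.Agent.MO.S.E62G.trB.eq_1]
  try have : _root_.True := by simp only [_root_.Cfsg.Agent.MO.S.B2.sB.eq_1]
  try have : _root_.True := by simp only [_root_.Cfsg.Agent.MO.S.E62G.zG.eq_1]
  try have : _root_.True := by simp only [_root_.Cfsg.Agent.MO.S.E62H.cp.eq_1]
  try have : _root_.True := by simp only [_root_.Cfsg.Agent.MO.S.E62G.wd.eq_1]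
  try have : _root_.True := by simp only [_root_.Cfsg.Agent.MO.S.E62H.l2.eq_1]
  try have : _root_.True := by simp only [_root_.Cfsg.Agent.MO.S.B2.sgn.eq_1]
  exact _root_.True.intro
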